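/-
Uniqueness of a block of defect zero in a group with a split BN-pair in characteristic p: on a simple projective
module the U-fixed vectors are one eigenline for all `Û g`, with an eigenvalue independent of the module.
-/
import Mathlib
import Cfsg.Agent.Lib.Blocks.GroupAlgebra
import Cfsg.Agent.Lib.Blocks.Nilpotent

set_option autoImplicit false

namespace Cfsg.Agent.DefChar

open MonoidAlgebra

variable {G : Type*} [Group G] [Finite G] {k : Type*} [Field k]

/-- a group element in the group algebra -/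
noncomputable abbrev el (k : Type*) [Field k] (g : G) : MonoidAlgebra k G := MonoidAlgebra.single g 1

theorem el_mul (g h : G) : el k g * el k h = el k (g * h) := by
  simp [el, MonoidAlgebra.single_mul_single]

theorem el_one : el k (1 : G) = 1 := rfl

theorem el_mul_assoc (g h : G) (z : MonoidAlgebra k G) : el k g * (el k h * z) = el k (g * h) * z := by
  rw [← mul_assoc, el_mul]

/-- the sum of a subgroup -/
noncomputable def hat (k : Type*) [Field k] (U : Subgroup G) : MonoidAlgebra k G :=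
  haveI := Fintype.ofFinite U
  ∑ u : U, el k (u : G)

theorem hat_eq (U : Subgroup G) [Fintype U] : hat k U = ∑ u : U, el k (u : G) := by
  unfold hat
  congr 1
  exact congrArg (@Finset.univ U) (Subsingleton.elim _ _)

theorem el_mul_hat {U : Subgroup G} {u : G} (hu : u ∈ U) : el k u * hat k U = hat k U := by
  haveI := Fintype.ofFinite U
  rw [hat_eq, Finset.mul_sum]
  simp only [el_mul]
  exact Fintype.sum_equiv (Equiv.mulLeft (⟨u, hu⟩ : U)) _ _ fun _ => rfl

theorem hat_mul_el {U : Subgroup G} {u : G} (hu : u ∈ U) : hat k U * el k u = hat k U := by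
  haveI := Fintype.ofFinite U
  rw [hat_eq, Finset.sum_mul]
  simp only [el_mul]
  exact Fintype.sum_equiv (Equiv.mulRight (⟨u, hu⟩ : U)) _ _ fun _ => rfl

/-- commuting a normalising element past a subgroup sum -/
theorem el_mul_hat_comm {U : Subgroup G} {t : G} (ht : t ∈ Subgroup.normalizer (U : Set G)) :
    el k t * hat k U = hat k U * el k t := by
  haveI := Fintype.ofFinite U
  rw [hat_eq, Finset.mul_sum, Finset.sum_mul]
  simp only [el_mul]
  refine Fintype.sum_bijective (fun u : U => (⟨t * u * t⁻¹, (Subgroup.mem_normalizer_iff.1 ht u).1 u.2⟩ : U))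
    ?_ _ _ fun u => by simp
  refine Finite.injective_iff_bijective.1 fun a b h => ?_
  simpa using congrArg Subtype.val h

variable (k) in
/-- fixed by all elements of `U` -/
def Fixed (U : Subgroup G) (z : MonoidAlgebra k G) : Prop := ∀ u ∈ U, el k u * z = z

theorem fixed_hat_mul (U : Subgroup G) (a : MonoidAlgebra k G) : Fixed k U (hat k U * a) := fun u hu => by
  rw [← mul_assoc, el_mul_hat hu]

theorem hat_mul_fixed {U : Subgroup G} {z : MonoidAlgebra k G} (hz : Fixed k U z) :
    hat k U * z = (Nat.card U : k) • z := by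
  haveI := Fintype.ofFinite U
  rw [hat_eq, Finset.sum_mul, Finset.sum_congr rfl fun (u : U) _ => hz u u.2, Finset.sum_const, Finset.card_univ,
    Nat.card_eq_fintype_card, Nat.cast_smul_eq_nsmul]

/-- the data of a split BN-pair used below -/
structure Setup (p : ℕ) (U T : Subgroup G) (w : G) : Prop where
  isP : IsPGroup p U
  T_norm : T ≤ Subgroup.normalizer (U : Set G)
  w_T : ∀ t ∈ T, w * t * w⁻¹ ∈ T
  cell : ∀ g : G, (∃ u ∈ U, u ≠ 1 ∧ g⁻¹ * u * g ∈ U) ∨ ∃ a ∈ U, ∃ t ∈ T, ∃ b ∈ U, g = a * w * t * b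

/-- the data of a simple root -/
structure Root (k : Type*) [Field k] (U T : Subgroup G) (w : G) (J : Type*) [Group J] [Fintype J] where
  Ui : Subgroup G
  le : Ui ≤ U
  ne_bot : Ui ≠ ⊥
  T_norm : T ≤ Subgroup.normalizer (Ui : Set G)
  s : G
  ss : s * s ∈ T
  τ : J →* G
  τ_mem : ∀ j, τ j ∈ T
  card_J : (Fintype.card J : k) = -1
  conj : ∀ j, s * τ j * s⁻¹ = τ j⁻¹
  φ : J → G
  φ_mem : ∀ j, φ j ∈ Ui ∧ φ j ≠ 1
  φ_inj : Function.Injective φ
  φ_surj : ∀ u ∈ Ui, u ≠ 1 → ∃ j, φ j = u
  rel : ∀ j, ∃ x ∈ Ui, ∃ x' ∈ Ui, s * φ j * s = x * τ j * s * x'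
  split : ∀ u ∈ U, ∃ x ∈ Ui, ∀ y ∈ Ui, s⁻¹ * (y⁻¹ * x⁻¹ * u * y) * s ∈ U
  factor : ∀ y ∈ Ui, w * s⁻¹ * y * (w * s⁻¹)⁻¹ ∈ U

variable {p : ℕ} [Fact p.Prime] [CharP k p] {U T : Subgroup G} {w : G}

/-- translations that do not lie in the big cell kill `Û` -/
theorem hat_el_eq_zero (hS : Setup p U T w) {g u : G} (hu : u ∈ U) (hu1 : u ≠ 1) (hg : g⁻¹ * u * g ∈ U)
    {z : MonoidAlgebra k G} (hz : Fixed k U z) : hat k U * (el k g * z) = 0 := by
  classical
  haveI := Fintype.ofFinite U
  set C : Subgroup U := Subgroup.zpowers (⟨u, hu⟩ : U)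
  have hinv : ∀ c ∈ C, el k (c : G) * (el k g * z) = el k g * z := by
    intro c hc
    have hmem : g⁻¹ * (c : G) * g ∈ U := by
      obtain ⟨i, rfl⟩ := hc
      have : g⁻¹ * u ^ i * g = (g⁻¹ * u * g) ^ i := by
        have := (conj_zpow (a := g⁻¹) (b := u) (i := i))
        simpa using this.symm
      show g⁻¹ * ((⟨u, hu⟩ : U) ^ i : U) * g ∈ U
      rw [Subgroup.coe_zpow, this]
      exact U.zpow_mem hg i
    rw [el_mul_assoc, show (c : G) * g = g * (g⁻¹ * c * g) by group, ← el_mul, mul_assoc, hz _ hmem]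
  letI act : MulAction C U :=
    { smul := fun c x => x * (c : U)⁻¹
      one_smul := fun x => by show x * ((1 : C) : U)⁻¹ = x; simp
      mul_smul := fun a b x => by
        show x * ((a * b : C) : U)⁻¹ = x * (b : U)⁻¹ * (a : U)⁻¹
        simp [mul_assoc] }
  have h := Cfsg.Agent.Blocks.sum_eq_sum_fixedPoints (hS.isP.to_subgroup C)
    (N := MonoidAlgebra k G) (fun a => by rw [← Nat.cast_smul_eq_nsmul k, CharP.cast_eq_zero, zero_smul])
    (fun x : U => el k (x : G) * (el k g * z)) (fun c x => by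
      show el k ((x * (c : U)⁻¹ : U) : G) * _ = _
      rw [Subgroup.coe_mul, ← el_mul, mul_assoc, hinv _ (inv_mem c.2)])
  rw [hat_eq, Finset.sum_mul]
  refine Eq.trans ?_ (Eq.trans h ?_)
  · exact Finset.sum_congr (by convert rfl) fun _ _ => rfl
  refine Finset.sum_eq_zero fun x hx => absurd (Finset.mem_filter.1 hx).2 fun hfix => hu1 ?_
  have := hfix ⟨⟨u, hu⟩, Subgroup.mem_zpowers _⟩
  have h2 : x * (⟨u, hu⟩ : U)⁻¹ = x := this
  simpa using congrArg Subtype.val (mul_eq_left.1 h2)

open Classical in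
/-- the big cell -/
noncomputable def inCell (k : Type*) [Field k] (U T : Subgroup G) (w g : G) : k :=
  if ∃ a ∈ U, ∃ t ∈ T, ∃ b ∈ U, g = a * w * t * b then 1 else 0

/-- a minimal left ideal on which fixed vectors are traces -/
structure Module' (k : Type*) [Field k] (U : Subgroup G) (W : Submodule (MonoidAlgebra k G) (MonoidAlgebra k G)) :
    Prop where
  proj : ∀ z ∈ W, Fixed k U z → ∃ a, z = hat k U * (a * z)
  simple : ∀ z ∈ W, z ≠ 0 → ∀ y ∈ W, ∃ a, y = a * z

variable {W : Submodule (MonoidAlgebra k G) (MonoidAlgebra k G)}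

omit [Fact p.Prime] [CharP k p] in
theorem hat_el_T (hS : Setup p U T w) {t : G} (ht : t ∈ T) (z : MonoidAlgebra k G) :
    hat k U * (el k (w * t) * z) = el k (w * t * w⁻¹) * (hat k U * (el k w * z)) := by
  rw [← mul_assoc (el k (w * t * w⁻¹)), el_mul_hat_comm (hS.T_norm (hS.w_T t ht)), mul_assoc, el_mul_assoc,
    inv_mul_cancel_right]

theorem X_injective (hS : Setup p U T w) (hW : Module' k U W) {z : MonoidAlgebra k G} (hzW : z ∈ W)
    (hz : Fixed k U z) (hX : hat k U * (el k w * z) = 0) : z = 0 := by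
  haveI := Fintype.ofFinite G
  obtain ⟨a, ha⟩ := hW.proj z hzW hz
  rw [ha, Cfsg.Agent.Blocks.eq_sum_single a, Finset.sum_mul, Finset.mul_sum]
  refine Finset.sum_eq_zero fun g _ => ?_
  have e : MonoidAlgebra.single g (a.coeff g) = a.coeff g • el k g := by simp [el]
  rw [e, smul_mul_assoc, mul_smul_comm]
  rcases hS.cell g with ⟨u, hu, hu1, hg⟩ | ⟨x, hx, t, ht, b, hb, rfl⟩
  · rw [hat_el_eq_zero hS hu hu1 hg hz, smul_zero]
  · rw [show x * w * t * b = x * (w * t) * b by group, ← el_mul, mul_assoc (el k _), hz b hb, ← el_mul, mul_assoc (el k x),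
      ← mul_assoc (hat k U), hat_mul_el hx, hat_el_T hS ht, hX, mul_zero, smul_zero]

omit [Fact p.Prime] [CharP k p] in
theorem Root.fixed {J : Type*} [Group J] [Fintype J] (R : Root k U T w J) {z : MonoidAlgebra k G}
    (hz : Fixed k U z) : Fixed k U (hat k R.Ui * (el k R.s * z)) := by
  intro u hu
  obtain ⟨x, hx, hxy⟩ := R.split u hu
  haveI := Fintype.ofFinite R.Ui
  have h : ∀ y : R.Ui, el k u * (el k (y : G) * (el k R.s * z)) = el k x * (el k (y : G) * (el k R.s * z)) := by
    intro y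
    simp only [el_mul_assoc, ← mul_assoc u, ← mul_assoc x]
    rw [show u * (y : G) * R.s = x * (y : G) * R.s * (R.s⁻¹ * ((y : G)⁻¹ * x⁻¹ * u * y) * R.s) by group, ← el_mul,
      mul_assoc, hz _ (hxy y y.2)]
  rw [hat_eq, Finset.sum_mul, Finset.mul_sum, Finset.sum_congr rfl fun y _ => h y, ← Finset.mul_sum,
    ← Finset.sum_mul, ← hat_eq, ← mul_assoc, el_mul_hat hx]

omit [Fact p.Prime] [CharP k p] in
theorem Root.exists_factor {J : Type*} [Group J] [Fintype J] (R : Root k U T w J) :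
    ∃ A : MonoidAlgebra k G, hat k U * el k w = A * (hat k R.Ui * el k R.s) := by
  classical
  haveI := Fintype.ofFinite U
  haveI := Fintype.ofFinite R.Ui
  set g := w * R.s⁻¹ with hg
  let f : R.Ui →* U :=
    { toFun := fun y => ⟨g * y * g⁻¹, R.factor y y.2⟩
      map_one' := Subtype.ext (by simp)
      map_mul' := fun a b => Subtype.ext (by simp [mul_assoc]) }
  have hf : Function.Injective f := fun a b h => by
    simpa [f] using congrArg Subtype.val h
  haveI : Fintype (U ⧸ f.range) := Fintype.ofFinite _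
  refine ⟨(∑ c : U ⧸ f.range, el k ((c.out : U) : G)) * el k g, ?_⟩
  let e : (U ⧸ f.range) × R.Ui → U := fun cy => cy.1.out * f cy.2
  have he : Function.Bijective e := by
    constructor
    · rintro ⟨c, y⟩ ⟨c', y'⟩ h
      have h' : c.out * f y = c'.out * f y' := h
      have hc : c = c' := by
        rw [← QuotientGroup.out_eq' c, ← QuotientGroup.out_eq' c', QuotientGroup.eq]
        refine ⟨y * y'⁻¹, ?_⟩
        rw [map_mul, map_inv]
        have h2 := congrArg (fun t => c.out⁻¹ * t * (f y')⁻¹) h'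
        simpa [mul_assoc] using h2
      subst hc
      rw [mul_right_inj] at h'
      rw [hf h']
    · intro u
      have hu := QuotientGroup.out_eq' (QuotientGroup.mk u : U ⧸ f.range)
      rw [QuotientGroup.eq] at hu
      obtain ⟨y, hy⟩ := hu
      exact ⟨(QuotientGroup.mk u, y), by show _ * f y = u; rw [hy, mul_inv_cancel_left]⟩
  rw [hat_eq U, Finset.sum_mul, hat_eq R.Ui]
  simp only [Finset.sum_mul, Finset.mul_sum, el_mul]
  rw [← he.sum_comp, Fintype.sum_prod_type, Finset.sum_comm]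
  refine Finset.sum_congr rfl fun y _ => Finset.sum_congr rfl fun c _ => ?_
  congr 1
  show ((c.out : U) : G) * (g * (y : G) * g⁻¹) * w = _
  rw [hg]
  group

theorem Root.τ_fix {J : Type*} [Group J] [Fintype J] (R : Root k U T w J) (hS : Setup p U T w)
    (hW : Module' k U W) {z : MonoidAlgebra k G} (hzW : z ∈ W) (hz : Fixed k U z) (j : J) :
    el k (R.τ j) * z = z := by
  classical
  set P : MonoidAlgebra k G := ∑ j : J, el k (R.τ j) with hP
  have hτz : ∀ (j : J) (z : MonoidAlgebra k G), Fixed k U z → Fixed k U (el k (R.τ j) * z) := by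
    intro j z hz u hu
    have h := (Subgroup.mem_normalizer_iff.1 (hS.T_norm (R.τ_mem j)) ((R.τ j)⁻¹ * u * R.τ j)).2
      (by simpa [mul_assoc] using hu)
    rw [el_mul_assoc, show u * R.τ j = R.τ j * ((R.τ j)⁻¹ * u * R.τ j) by group, ← el_mul, mul_assoc,
      hz _ h]
  have hWmul : ∀ (a : MonoidAlgebra k G) {z}, z ∈ W → a * z ∈ W := fun a z hz => by
    simpa using W.smul_mem a hz
  have hcard : (Nat.card R.Ui : k) = 0 := by
    obtain ⟨m, hm⟩ := IsPGroup.iff_card.1 (hS.isP.to_le R.le)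
    rw [hm, Nat.cast_pow, CharP.cast_eq_zero, zero_pow]
    rintro rfl
    rw [pow_zero] at hm
    exact R.ne_bot (Subgroup.card_eq_one.1 hm)
  -- the two relations
  have rel : ∀ z : MonoidAlgebra k G, Fixed k U z → hat k R.Ui * (el k R.s * (hat k R.Ui * (el k R.s * z))) =
      P * (hat k R.Ui * (el k R.s * z)) := by
    intro z hz
    haveI := Fintype.ofFinite R.Ui
    have hexp : hat k R.Ui * (el k R.s * (hat k R.Ui * (el k R.s * z))) =
        ∑ u : R.Ui, hat k R.Ui * (el k (R.s * (u : G) * R.s) * z) := by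
      nth_rw 2 [hat_eq]
      simp only [Finset.sum_mul, Finset.mul_sum, el_mul_assoc, mul_assoc]
    rw [hexp, Fintype.sum_eq_add_sum_compl (1 : R.Ui)]
    have h0 : hat k R.Ui * (el k (R.s * ((1 : R.Ui) : G) * R.s) * z) = 0 := by
      rw [Subgroup.coe_one, mul_one, ← mul_assoc, ← el_mul_hat_comm (R.T_norm R.ss), mul_assoc,
        hat_mul_fixed (fun u hu => hz u (R.le hu)), hcard, zero_smul, mul_zero]
    rw [h0, zero_add, hP, Finset.sum_mul]
    symm
    refine Finset.sum_bij (fun j _ => (⟨R.φ j, (R.φ_mem j).1⟩ : R.Ui)) (fun j _ => ?_) (fun a _ b _ h => ?_)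
      (fun u hu => ?_) (fun j _ => ?_)
    · simp only [Finset.mem_compl, Finset.mem_singleton]
      exact fun h => (R.φ_mem j).2 (congrArg Subtype.val h)
    · exact R.φ_inj (congrArg Subtype.val h)
    · simp only [Finset.mem_compl, Finset.mem_singleton] at hu
      obtain ⟨j, hj⟩ := R.φ_surj u u.2 (fun h => hu (Subtype.ext h))
      exact ⟨j, Finset.mem_univ _, Subtype.ext hj⟩
    · obtain ⟨x, hx, x', hx', hrel⟩ := R.rel j
      show el k (R.τ j) * _ = hat k R.Ui * (el k (R.s * R.φ j * R.s) * z)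
      rw [hrel, ← el_mul, mul_assoc (el k _), hz x' (R.le hx'), show x * R.τ j * R.s = x * (R.τ j * R.s) by group,
        ← el_mul, mul_assoc (el k x), ← mul_assoc (hat k R.Ui) (el k x), hat_mul_el hx, ← el_mul,
        mul_assoc (el k (R.τ j)) (el k R.s)]
      rw [← mul_assoc (el k (R.τ j)) (hat k R.Ui), el_mul_hat_comm (R.T_norm (R.τ_mem j)), mul_assoc]
  have move : ∀ z : MonoidAlgebra k G,
      P * (hat k R.Ui * (el k R.s * z)) = hat k R.Ui * (el k R.s * (P * z)) := by
    intro z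
    simp only [hP, Finset.sum_mul, Finset.mul_sum]
    refine Fintype.sum_equiv (Equiv.inv J) _ _ fun j => ?_
    show _ = hat k R.Ui * (el k R.s * (el k (R.τ j⁻¹) * z))
    rw [← R.conj j, ← mul_assoc, el_mul_hat_comm (R.T_norm (R.τ_mem j)), mul_assoc, el_mul_assoc,
      el_mul_assoc R.s]
    congr 3
    rw [R.conj j]
    have h := R.conj j⁻¹
    rw [inv_inv] at h
    rw [← h]; group
  have inj : ∀ z ∈ W, Fixed k U z → P * z = 0 → z = 0 := by
    intro z hzW hz hPz
    obtain ⟨A, hA⟩ := R.exists_factor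
    have hXeq : ∀ y, hat k U * (el k w * y) = A * (hat k R.Ui * (el k R.s * y)) := fun y => by
      rw [← mul_assoc, hA, mul_assoc A, mul_assoc (hat k R.Ui)]
    set y := hat k R.Ui * (el k R.s * z)
    have hy : y = 0 := by
      refine X_injective hS hW (hWmul _ (hWmul _ hzW)) (R.fixed hz) ?_
      rw [hXeq, rel z hz, move, hPz, mul_zero, mul_zero, mul_zero]
    exact X_injective hS hW hzW hz (by rw [hXeq]; show A * y = 0; rw [hy, mul_zero])
  have hτP : el k (R.τ j) * z - z = 0 := by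
    refine inj _ (W.sub_mem (hWmul _ hzW) hzW) (fun u hu => ?_) ?_
    · rw [mul_sub, hτz j z hz u hu, hz u hu]
    · rw [mul_sub, sub_eq_zero, hP, Finset.sum_mul, Finset.sum_mul]
      simp only [el_mul_assoc, ← map_mul R.τ]
      exact Fintype.sum_equiv (Equiv.mulRight j) _ _ fun _ => rfl
  exact sub_eq_zero.1 hτP

/-- **Universal eigenvalues.** -/
theorem eigen {J : Type*} [Group J] [Fintype J] {ι : Type*} (R : ι → Root k U T w J)
    (hgen : T ≤ Subgroup.closure (⋃ i, Set.range (R i).τ))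
    (hS : Setup p U T w) :
    ∃ γ : MonoidAlgebra k G →ₗ[k] k, ∀ W : Submodule (MonoidAlgebra k G) (MonoidAlgebra k G), Module' k U W →
      ∀ z ∈ W, Fixed k U z → ∀ a : MonoidAlgebra k G, hat k U * (a * z) = γ a • z := by
  classical
  haveI := Fintype.ofFinite G
  haveI := Fintype.ofFinite U
  set N : k := ∑ u : U, inCell k U T w (w * (u : G))
  let γ₀ : MonoidAlgebra k G →ₗ[k] k :=
    { toFun := fun a => ∑ g : G, a.coeff g * inCell k U T w g
      map_add' := fun a b => by simp [add_mul, Finset.sum_add_distrib]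
      map_smul' := fun c a => by simp [Finset.mul_sum, mul_assoc] }
  set M : k := ∑ u : U, inCell k U T w (w * (u : G) * w)
  refine ⟨M • γ₀, fun W hW => ?_⟩
  have hWmul : ∀ (a : MonoidAlgebra k G) {z}, z ∈ W → a * z ∈ W := fun a z hz => by
    simpa using W.smul_mem a hz
  have hTfix : ∀ t ∈ T, ∀ z ∈ W, Fixed k U z → el k t * z = z := by
    intro t ht
    induction hgen ht using Subgroup.closure_induction with
    | mem x hx =>
      obtain ⟨i, j, rfl⟩ := Set.mem_iUnion.1 hx
      exact fun z hzW hz => (R i).τ_fix hS hW hzW hz j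
    | one => exact fun z _ _ => by rw [el_one, one_mul]
    | mul x y hx hy ihx ihy =>
      intro z hzW hz
      have hT : ∀ g ∈ Subgroup.closure (⋃ i, Set.range (R i).τ), g ∈ T := fun g hg =>
        (Subgroup.closure_le T).2 (by rintro _ h; obtain ⟨i, j, rfl⟩ := Set.mem_iUnion.1 h; exact (R i).τ_mem j) hg
      rw [← el_mul, mul_assoc, ihy (hT y hy) z hzW hz, ihx (hT x hx) z hzW hz]
    | inv x hx ih =>
      intro z hzW hz
      have hT : x ∈ T := (Subgroup.closure_le T).2
        (by rintro _ h; obtain ⟨i, j, rfl⟩ := Set.mem_iUnion.1 h; exact (R i).τ_mem j) hx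
      conv_lhs => rw [← ih hT z hzW hz]
      rw [el_mul_assoc, inv_mul_cancel, el_one, one_mul]
  have hg : ∀ g, ∀ z ∈ W, Fixed k U z →
      hat k U * (el k g * z) = inCell k U T w g • (hat k U * (el k w * z)) := by
    intro g z hzW hz
    unfold inCell
    split_ifs with h
    · obtain ⟨a, ha, t, ht, b, hb, rfl⟩ := h
      rw [one_smul, show a * w * t * b = a * (w * t) * b by group, ← el_mul, mul_assoc (el k _), hz b hb, ← el_mul,
        mul_assoc (el k a), ← mul_assoc (hat k U), hat_mul_el ha, ← el_mul, mul_assoc, hTfix t ht z hzW hz]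
    · rcases hS.cell g with ⟨u, hu, hu1, hg'⟩ | h'
      · rw [zero_smul, hat_el_eq_zero hS hu hu1 hg' hz]
      · exact absurd h' h
  have hlin : ∀ z ∈ W, Fixed k U z → ∀ a, hat k U * (a * z) = γ₀ a • (hat k U * (el k w * z)) := by
    intro z hzW hz a
    conv_lhs => rw [Cfsg.Agent.Blocks.eq_sum_single a]
    rw [Finset.sum_mul, Finset.mul_sum]
    show _ = (∑ g : G, a.coeff g * inCell k U T w g) • _
    rw [Finset.sum_smul]
    refine Finset.sum_congr rfl fun g _ => ?_
    have e : MonoidAlgebra.single g (a.coeff g) = a.coeff g • el k g := by simp [el]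
    rw [e, smul_mul_assoc, mul_smul_comm, hg g z hzW hz, smul_smul]
  intro z hzW hz a
  rcases eq_or_ne z 0 with rfl | hz0
  · simp
  -- `z` is an eigenvector
  obtain ⟨b, hb⟩ := hW.proj z hzW hz
  rw [hlin z hzW hz] at hb
  have hb0 : γ₀ b ≠ 0 := fun h => hz0 (by rw [hb, h, zero_smul])
  set y := hat k U * (el k w * z) with hy
  have hyz : y = (γ₀ b)⁻¹ • z := by rw [hb, inv_smul_smul₀ hb0]
  have hXX : hat k U * (el k w * y) = M • y := by
    have : el k w * y = ∑ u : U, el k (w * (u : G) * w) * z := by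
      rw [hy]
      nth_rw 1 [hat_eq]
      simp only [Finset.sum_mul, Finset.mul_sum, el_mul_assoc, mul_assoc]
    rw [this, Finset.mul_sum, Finset.sum_congr rfl fun u _ => hg _ z hzW hz, ← hy, ← Finset.sum_smul]
  have hμ : (γ₀ b)⁻¹ = M := by
    rw [hyz, mul_smul_comm, mul_smul_comm, ← hy, hyz, smul_smul, smul_smul] at hXX
    exact mul_right_cancel₀ (inv_ne_zero hb0) (smul_left_injective k hz0 hXX)
  rw [hlin z hzW hz, LinearMap.smul_apply, ← hy, hyz, hμ, smul_smul, smul_eq_mul, mul_comm]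

/-- fixed vectors are traces under an idempotent supported on elements with free conjugacy orbits -/
theorem exists_trace (U : Subgroup G) {e : MonoidAlgebra k G} (hc : Cfsg.Agent.Blocks.IsCentralElt e)
    (hfree : ∀ g, e.coeff g ≠ 0 → ∀ u ∈ U, u * g = g * u → u = 1) :
    ∃ b : MonoidAlgebra k G, ∀ z, Fixed k U z → e * z = hat k U * (b * z) := by
  classical
  haveI := Fintype.ofFinite G
  haveI := Fintype.ofFinite U
  let S : Setoid G :=
    { r := fun g h => ∃ u ∈ U, u * g * u⁻¹ = h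
      iseqv := ⟨fun g => ⟨1, U.one_mem, by group⟩,
        fun ⟨u, hu, h⟩ => ⟨u⁻¹, inv_mem hu, by rw [← h]; group⟩,
        fun ⟨u, hu, h⟩ ⟨v, hv, h'⟩ => ⟨v * u, mul_mem hv hu, by rw [← h', ← h]; group⟩⟩ }
  let rep : G → G := fun g => (Quotient.mk S g).out
  let f : G → k := fun g => if rep g = g then e.coeff g else 0
  have hrep : ∀ g, ∃ u ∈ U, u * rep g * u⁻¹ = g := fun g => Quotient.exact (Quotient.out_eq (Quotient.mk S g))
  have hconst : ∀ g, ∀ u ∈ U, rep (u * g * u⁻¹) = rep g := fun g u hu => by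
    have : Quotient.mk S (u * g * u⁻¹) = Quotient.mk S g :=
      Quotient.sound ⟨u⁻¹, inv_mem hu, by group⟩
    simp only [rep, this]
  have hsum : ∀ g, e.coeff g = ∑ u : U, f ((u : G)⁻¹ * g * u) := by
    intro g
    have hval : ∀ u : U, f ((u : G)⁻¹ * g * u) = if (u : G)⁻¹ * g * u = rep g then e.coeff g else 0 := by
      intro u
      have h1 := hconst g _ (inv_mem u.2)
      rw [inv_inv] at h1
      have h2 : e.coeff ((u : G)⁻¹ * g * u) = e.coeff g := by
        have := hc g (u : G)⁻¹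
        rwa [inv_inv] at this
      simp only [f, h1, h2, eq_comm]
    rw [Finset.sum_congr rfl fun u _ => hval u]
    obtain ⟨u₀, hu₀, he⟩ := hrep g
    by_cases h0 : e.coeff g = 0
    · simp [h0]
    rw [Finset.sum_eq_single (⟨u₀, hu₀⟩ : U)]
    · rw [if_pos]
      show u₀⁻¹ * g * u₀ = rep g
      nth_rw 1 [← he]
      group
    · intro u _ hu
      rw [if_neg]
      intro h
      apply hu
      have h3 : u₀ * (u : G)⁻¹ = 1 := hfree g h0 _ (mul_mem hu₀ (inv_mem u.2)) (by
        have : u₀ * ((u : G)⁻¹ * g * u) * u₀⁻¹ = g := by rw [h, he]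
        calc u₀ * (u : G)⁻¹ * g = (u₀ * ((u : G)⁻¹ * g * u) * u₀⁻¹) * (u₀ * (u : G)⁻¹) := by group
          _ = g * (u₀ * (u : G)⁻¹) := by rw [this])
      exact Subtype.ext (mul_inv_eq_one.1 h3).symm
    · simp
  refine ⟨Cfsg.Agent.Blocks.ofFun f, fun z hz => ?_⟩
  have he : e = ∑ u : U, el k (u : G) * Cfsg.Agent.Blocks.ofFun f * el k (u : G)⁻¹ := by
    refine Cfsg.Agent.Blocks.alg_ext fun g => ?_
    rw [MonoidAlgebra.coeff_sum, Finsupp.finsetSum_apply, hsum]
    refine Finset.sum_congr rfl fun u _ => ?_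
    rw [el, el, Cfsg.Agent.Blocks.coeff_mul_single', Cfsg.Agent.Blocks.coeff_single_mul']
    simp [mul_assoc]
  conv_lhs => rw [he]
  rw [Finset.sum_mul, hat_eq, Finset.sum_mul]
  refine Finset.sum_congr rfl fun u _ => ?_
  rw [mul_assoc, hz _ (inv_mem u.2), mul_assoc]

/-- **At most one central idempotent of defect zero.** -/
theorem no_two_idempotents {J : Type*} [Group J] [Fintype J] {ι : Type*} (R : ι → Root k U T w J)
    (hgen : T ≤ Subgroup.closure (⋃ i, Set.range (R i).τ)) (hS : Setup p U T w)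
    (e e' : MonoidAlgebra k G)
    (hc : Cfsg.Agent.Blocks.IsCentralElt e) (hc' : Cfsg.Agent.Blocks.IsCentralElt e')
    (he : e * e = e) (he' : e' * e' = e') (horth : e * e' = 0) (hne : e ≠ 0) (hne' : e' ≠ 0)
    (hfree : ∀ g, e.coeff g ≠ 0 → ∀ u ∈ U, u * g = g * u → u = 1)
    (hfree' : ∀ g, e'.coeff g ≠ 0 → ∀ u ∈ U, u * g = g * u → u = 1) : False := by
  classical
  haveI := Fintype.ofFinite G
  haveI : Module.Finite k (MonoidAlgebra k G) := inferInstance
  -- a minimal left ideal inside an idempotent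
  have main : ∀ e : MonoidAlgebra k G, Cfsg.Agent.Blocks.IsCentralElt e → e * e = e → e ≠ 0 →
      (∀ g, e.coeff g ≠ 0 → ∀ u ∈ U, u * g = g * u → u = 1) →
      ∃ W, Module' k U W ∧ ∃ z ∈ W, z ≠ 0 ∧ Fixed k U z ∧ e * z = z := by
    intro e hc he hne hfree
    haveI : IsArtinianRing (MonoidAlgebra k G) := IsArtinianRing.of_finite k (MonoidAlgebra k G)
    obtain ⟨W, hWmem, hWmin⟩ :=
      (wellFounded_lt (α := Submodule (MonoidAlgebra k G) (MonoidAlgebra k G))).has_min
        {W | W ≠ ⊥ ∧ W ≤ Submodule.span (MonoidAlgebra k G) {e}}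
        ⟨_, by rw [Ne, Submodule.span_singleton_eq_bot]; exact hne, le_rfl⟩
    have hWe : ∀ z ∈ W, e * z = z := by
      intro z hz
      obtain ⟨a, rfl⟩ := Submodule.mem_span_singleton.1 (hWmem.2 hz)
      rw [smul_eq_mul, ← mul_assoc, (hc.commute a).eq, mul_assoc, he]
    have hsimple : ∀ z ∈ W, z ≠ 0 → ∀ y ∈ W, ∃ a, y = a * z := by
      intro z hz hz0 y hy
      have hle : Submodule.span (MonoidAlgebra k G) {z} ≤ W := (Submodule.span_singleton_le_iff_mem _ _).2 hz
      have heq : Submodule.span (MonoidAlgebra k G) {z} = W := by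
        by_contra hne'
        exact hWmin _ ⟨by rwa [Ne, Submodule.span_singleton_eq_bot], hle.trans hWmem.2⟩ (lt_of_le_of_ne hle hne')
      obtain ⟨a, ha⟩ := Submodule.mem_span_singleton.1 (heq ▸ hy)
      exact ⟨a, ha.symm⟩
    have hWk : (W.restrictScalars k) ≠ ⊥ := by simpa using hWmem.1
    obtain ⟨z, hzW, hz0, hzU⟩ := Cfsg.Agent.Blocks.exists_fixed_ne_zero (F := k) U hS.isP
      (W.restrictScalars k) (fun q _ x hx => W.smul_mem (el k q) hx) hWk
    obtain ⟨b, hb⟩ := exists_trace U hc hfree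
    exact ⟨W, ⟨fun y hy hyU => ⟨b, by rw [← hb y hyU, hWe y hy]⟩, hsimple⟩, z, hzW, hz0, hzU, hWe z hzW⟩
  obtain ⟨W, hW, z, hzW, hz0, hzU, hez⟩ := main e hc he hne hfree
  obtain ⟨W', hW', z', hzW', hz0', hzU', hez'⟩ := main e' hc' he' hne' hfree'
  obtain ⟨γ, hγ⟩ := eigen R hgen hS
  obtain ⟨a, ha⟩ := hW.proj z hzW hzU
  have h1 : γ (a * e) • z = z := by rw [← hγ W hW z hzW hzU, mul_assoc, hez, ← ha]
  have h2 : γ (a * e) • z' = 0 := by
    rw [← hγ W' hW' z' hzW' hzU', mul_assoc]
    conv_lhs => rw [← hez', ← mul_assoc e, horth, zero_mul, mul_zero, mul_zero]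
  rw [smul_eq_zero, or_iff_left hz0'] at h2
  rw [h2, zero_smul] at h1
  exact hz0 h1.symm

end Cfsg.Agent.DefChar
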