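/-
The split BN-pair data of SL(n, q): the diagonal torus, the signed reversal, the simple roots.
-/
import Mathlib
import Cfsg.Agent.Lib.DefChar.Abstract
import Cfsg.Agent.Lib.GL.Sylow
import Cfsg.Agent.Lib.FlagChar.Bruhat

set_option autoImplicit false
set_option maxHeartbeats 800000

open Matrix

namespace Cfsg.Agent.DefChar

universe u

variable {F : Type u} [Field F] {n : ℕ}

local notation "SLn" => Matrix.SpecialLinearGroup (Fin n) F

theorem sl_ext {g h : SLn} (H : ∀ (y : Fin n → F) i, ((g : Matrix (Fin n) (Fin n) F) *ᵥ y) i =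
    ((h : Matrix (Fin n) (Fin n) F) *ᵥ y) i) : g = h :=
  Subtype.ext (Matrix.toLin'.injective (LinearMap.ext fun y => funext fun i => by simpa using H y i))

theorem mulVec_mul (g h : SLn) (y : Fin n → F) : ((g * h : SLn) : Matrix (Fin n) (Fin n) F) *ᵥ y =
    (g : Matrix (Fin n) (Fin n) F) *ᵥ ((h : Matrix (Fin n) (Fin n) F) *ᵥ y) := by
  rw [Matrix.SpecialLinearGroup.coe_mul, Matrix.mulVec_mulVec]

/-- `x_{ab}(c)` -/
def tr {a b : Fin n} (h : a ≠ b) (c : F) : SLn := Matrix.SpecialLinearGroup.transvection h c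

theorem tr_mulVec {a b : Fin n} (h : a ≠ b) (c : F) (y : Fin n → F) (i : Fin n) :
    ((tr h c : SLn) : Matrix (Fin n) (Fin n) F) *ᵥ y = y + Pi.single a (c * y b) := by
  show Matrix.transvection a b c *ᵥ y = _
  rw [Matrix.transvection, Matrix.add_mulVec, Matrix.one_mulVec]
  congr 1
  ext k
  simp [Matrix.mulVec, dotProduct, Matrix.single_apply, Pi.single_apply, Finset.sum_ite_eq', eq_comm, ite_and]

theorem tr_apply {a b : Fin n} (h : a ≠ b) (c : F) (y : Fin n → F) (i : Fin n) :
    (((tr h c : SLn) : Matrix (Fin n) (Fin n) F) *ᵥ y) i = if i = a then y i + c * y b else y i := by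
  rw [tr_mulVec h c y i, Pi.add_apply, Pi.single_apply]
  split_ifs <;> simp

theorem tr_add {a b : Fin n} (h : a ≠ b) (c d : F) : (tr h c : SLn) * tr h d = tr h (c + d) := by
  refine sl_ext fun y i => ?_
  rw [mulVec_mul]
  simp only [tr_apply, if_neg (Ne.symm h)]
  split_ifs <;> ring

theorem tr_zero {a b : Fin n} (h : a ≠ b) : (tr h (0 : F) : SLn) = 1 := by
  refine sl_ext fun y i => ?_
  simp [tr_apply]

/-- the root subgroup -/
def rootHom {a b : Fin n} (h : a ≠ b) : Multiplicative F →* SLn where
  toFun c := tr h c.toAdd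
  map_one' := tr_zero h
  map_mul' c d := (tr_add h _ _).symm

theorem mem_rootHom {a b : Fin n} (h : a ≠ b) (g : SLn) :
    g ∈ (rootHom (F := F) h).range ↔ ∃ c, tr h c = g :=
  ⟨fun ⟨c, hc⟩ => ⟨c.toAdd, hc⟩, fun ⟨c, hc⟩ => ⟨Multiplicative.ofAdd c, hc⟩⟩

theorem tr_mem_unitriangular {a b : Fin n} (h : a < b) (c : F) :
    (tr h.ne c : SLn) ∈ GL.unitriangularSL n F := GL.transvection_mem_unitriangular h c

/-- the diagonal torus -/
def diagSL (n : ℕ) (F : Type u) [Field F] : Subgroup (Matrix.SpecialLinearGroup (Fin n) F) where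
  carrier := {t | ∀ i j, i ≠ j → (t : Matrix (Fin n) (Fin n) F) i j = 0}
  one_mem' i j h := by simp [h]
  mul_mem' {s t} hs ht i j h := by
    rw [Matrix.SpecialLinearGroup.coe_mul, Matrix.mul_apply]
    refine Finset.sum_eq_zero fun k _ => ?_
    by_cases hik : i = k
    · subst hik; rw [ht i j h, mul_zero]
    · rw [hs i k hik, zero_mul]
  inv_mem' {t} ht i j h := by
    rw [Matrix.SpecialLinearGroup.coe_inv]
    have : (t : Matrix (Fin n) (Fin n) F) = Matrix.diagonal fun i => (t : Matrix (Fin n) (Fin n) F) i i := by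
      ext k l
      by_cases hkl : k = l
      · subst hkl; simp
      · rw [ht k l hkl, Matrix.diagonal_apply_ne _ hkl]
    rw [this, Matrix.adjugate_diagonal, Matrix.diagonal_apply_ne _ h]

theorem diag_apply {t : SLn} (ht : t ∈ diagSL n F) (y : Fin n → F) (i : Fin n) :
    ((t : Matrix (Fin n) (Fin n) F) *ᵥ y) i = (t : Matrix (Fin n) (Fin n) F) i i * y i := by
  rw [Matrix.mulVec, dotProduct, Finset.sum_eq_single i]
  · intro j _ hj; rw [ht i j (Ne.symm hj), zero_mul]
  · simp

theorem diag_ne_zero {t : SLn} (ht : t ∈ diagSL n F) (i : Fin n) : (t : Matrix (Fin n) (Fin n) F) i i ≠ 0 := by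
  intro h
  have h1 := t.2
  rw [Matrix.det_eq_zero_of_row_eq_zero i] at h1
  · exact zero_ne_one h1
  · intro j
    by_cases hij : i = j
    · subst hij; exact h
    · exact ht i j hij

theorem diag_inv_apply {t : SLn} (ht : t ∈ diagSL n F) (y : Fin n → F) (i : Fin n) :
    (((t⁻¹ : SLn) : Matrix (Fin n) (Fin n) F) *ᵥ y) i = ((t : Matrix (Fin n) (Fin n) F) i i)⁻¹ * y i := by
  have h := diag_apply ht (((t⁻¹ : SLn) : Matrix (Fin n) (Fin n) F) *ᵥ y) i
  rw [← mulVec_mul, mul_inv_cancel] at h
  simp only [Matrix.SpecialLinearGroup.coe_one, Matrix.one_mulVec] at h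
  rw [h, ← mul_assoc, inv_mul_cancel₀ (diag_ne_zero ht i), one_mul]

/-- the element of the torus with given diagonal -/
def diagElt (d : Fin n → F) (h : ∏ i, d i = 1) : SLn := ⟨Matrix.diagonal d, by rw [Matrix.det_diagonal, h]⟩

theorem diagElt_mem (d : Fin n → F) (h : ∏ i, d i = 1) : diagElt d h ∈ diagSL n F := fun _ _ hij =>
  Matrix.diagonal_apply_ne _ hij

theorem diagElt_apply (d : Fin n → F) (h : ∏ i, d i = 1) (y : Fin n → F) (i : Fin n) :
    (((diagElt d h : SLn) : Matrix (Fin n) (Fin n) F) *ᵥ y) i = d i * y i :=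
  Matrix.mulVec_diagonal d y i

theorem diag_conj_tr {t : SLn} (ht : t ∈ diagSL n F) {a b : Fin n} (h : a ≠ b) (c : F) :
    t * tr h c * t⁻¹ = tr h ((t : Matrix (Fin n) (Fin n) F) a a * c / (t : Matrix (Fin n) (Fin n) F) b b) := by
  refine sl_ext fun y i => ?_
  rw [mulVec_mul, mulVec_mul]
  simp only [diag_apply ht, tr_apply, diag_inv_apply ht]
  have := diag_ne_zero ht i
  have := diag_ne_zero ht b
  split_ifs with hi
  · subst hi; field_simp
  · field_simp

section Root

variable {a b : Fin n} (h : a < b)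

/-- the Weyl element of a root -/
def sEl : SLn := tr h.ne 1 * tr h.ne' (-1) * tr h.ne 1

theorem sEl_apply (y : Fin n → F) (i : Fin n) :
    (((sEl h : SLn) : Matrix (Fin n) (Fin n) F) *ᵥ y) i = if i = a then y b else if i = b then -y a else y i := by
  rw [sEl, mulVec_mul, mulVec_mul]
  simp only [tr_apply, if_neg h.ne', if_pos rfl, eq_self_iff_true, ite_true]
  by_cases hi : i = a
  · subst hi
    simp [h.ne, h.ne']
  · by_cases hb : i = b
    · subst hb; simp [h.ne, h.ne']
    · simp [hi, hb]

theorem sEl_inv_apply (y : Fin n → F) (i : Fin n) :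
    ((((sEl h)⁻¹ : SLn) : Matrix (Fin n) (Fin n) F) *ᵥ y) i = if i = a then -y b else if i = b then y a else y i := by
  set z := (((sEl h)⁻¹ : SLn) : Matrix (Fin n) (Fin n) F) *ᵥ y with hz
  have h1 : ∀ i, (((sEl h : SLn) : Matrix (Fin n) (Fin n) F) *ᵥ z) i = y i := fun i => by
    rw [hz, ← mulVec_mul, mul_inv_cancel]; simp
  by_cases hi : i = a
  · have := h1 b
    rw [sEl_apply, if_neg h.ne', if_pos rfl] at this
    rw [if_pos hi, hi, ← this, neg_neg]
  · by_cases hb : i = b
    · have := h1 a
      rw [sEl_apply, if_pos rfl] at this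
      rw [if_neg hi, if_pos hb, hb, this]
    · have := h1 i
      rw [sEl_apply, if_neg hi, if_neg hb] at this
      rw [if_neg hi, if_neg hb, this]

/-- the coroot -/
def corootFun (c : Fˣ) : Fin n → F := Function.update (Function.update (fun _ => 1) a (c : F)) b ((c⁻¹ : Fˣ) : F)

theorem prod_corootFun (hne : a ≠ b) (c : Fˣ) : ∏ i, corootFun (a := a) (b := b) c i = 1 := by
  rw [corootFun, Finset.prod_update_of_mem (Finset.mem_univ _),
    Finset.prod_update_of_mem (by simp [hne]), Finset.prod_const_one, mul_one, ← Units.val_mul, inv_mul_cancel,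
    Units.val_one]

theorem corootFun_eq (hne : a ≠ b) (c : Fˣ) (i : Fin n) : corootFun (a := a) (b := b) c i =
    if i = a then (c : F) else if i = b then ((c⁻¹ : Fˣ) : F) else 1 := by
  unfold corootFun
  by_cases hi : i = a
  · subst hi; simp [hne]
  · by_cases hb : i = b
    · subst hb; simp [Ne.symm hne]
    · simp [hi, hb]

/-- the coroot homomorphism -/
def coroot : Fˣ →* SLn where
  toFun c := diagElt (corootFun (a := a) (b := b) c) (prod_corootFun h.ne c)
  map_one' := by
    refine sl_ext fun y i => ?_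
    rw [diagElt_apply, corootFun_eq h.ne]
    simp
  map_mul' c d := by
    refine sl_ext fun y i => ?_
    rw [diagElt_apply, mulVec_mul, diagElt_apply, diagElt_apply, corootFun_eq h.ne, corootFun_eq h.ne,
      corootFun_eq h.ne]
    split_ifs <;> push_cast <;> ring

theorem coroot_apply (c : Fˣ) (y : Fin n → F) (i : Fin n) :
    (((coroot h c : SLn) : Matrix (Fin n) (Fin n) F) *ᵥ y) i =
      (if i = a then (c : F) else if i = b then ((c⁻¹ : Fˣ) : F) else 1) * y i := by
  rw [show coroot h c = diagElt (corootFun c) (prod_corootFun h.ne c) from rfl, diagElt_apply, corootFun_eq h.ne]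

theorem coroot_mem (c : Fˣ) : coroot h c ∈ diagSL n F := diagElt_mem (corootFun c) (prod_corootFun h.ne c)

theorem coroot_conj (c : Fˣ) : sEl h * coroot h c * (sEl h)⁻¹ = coroot h c⁻¹ := by
  refine sl_ext fun y i => ?_
  rw [mulVec_mul, mulVec_mul]
  simp only [sEl_apply, coroot_apply, sEl_inv_apply, if_neg h.ne', if_neg h.ne, if_true, inv_inv]
  by_cases hi : i = a
  · subst hi; simp [h.ne, h.ne']
  · by_cases hb : i = b
    · subst hb; simp [h.ne, h.ne']
    · simp [hi, hb]

theorem sEl_sq : (sEl h : SLn) * sEl h = coroot h (-1) := by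
  refine sl_ext fun y i => ?_
  rw [mulVec_mul]
  simp only [sEl_apply, coroot_apply]
  by_cases hi : i = a
  · subst hi; simp [h.ne, h.ne']
  · by_cases hb : i = b
    · subst hb; simp [h.ne, h.ne']
    · simp [hi, hb]

theorem rel (c : Fˣ) : sEl h * tr h.ne (-((c⁻¹ : Fˣ) : F)) * sEl h =
    (tr h.ne (c : F) : SLn) * coroot h c * sEl h * tr h.ne (c : F) := by
  refine sl_ext fun y i => ?_
  simp only [mulVec_mul, tr_apply, coroot_apply, sEl_apply]
  by_cases hi : i = a
  · subst hi
    simp [h.ne']
  · by_cases hb : i = b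
    · subst hb
      simp [h.ne']
      field_simp
      ring
    · simp [hi, hb]

end Root

/-- the signed reversal -/
theorem exists_w (hn : 0 < n) : ∃ (w : SLn) (ε : Fin n → F), (∀ i, ε i ≠ 0) ∧
    ∀ y i, ((w : Matrix (Fin n) (Fin n) F) *ᵥ y) i = ε i * y (Fin.rev i) := by
  classical
  set σ : F := ((Equiv.Perm.sign (Fin.revPerm : Equiv.Perm (Fin n)) : ℤ) : F)
  have hσ2 : σ * σ = 1 := by
    rw [← Int.cast_mul, ← Units.val_mul, Int.units_mul_self, Units.val_one, Int.cast_one]
  have hσ : σ ≠ 0 := left_ne_zero_of_mul (hσ2.symm ▸ one_ne_zero)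
  let ε : Fin n → F := Function.update (fun _ => 1) ⟨0, hn⟩ σ
  have hε : ∀ i, ε i ≠ 0 := fun i => by
    by_cases hi : i = ⟨0, hn⟩
    · subst hi; simp [ε, hσ]
    · simp [ε, hi]
  let M : Matrix (Fin n) (Fin n) F := Matrix.diagonal ε * (Fin.revPerm.permMatrix F)
  have hM : M.det = 1 := by
    simp only [M, Matrix.det_mul, Matrix.det_diagonal, Matrix.det_permutation, ε,
      Finset.prod_update_of_mem (Finset.mem_univ _), Finset.prod_const_one, mul_one]
    exact hσ2
  refine ⟨⟨M, hM⟩, ε, hε, fun y i => ?_⟩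
  show (M *ᵥ y) i = _
  rw [← Matrix.mulVec_mulVec, Matrix.mulVec_diagonal, Equiv.Perm.permMatrix, PEquiv.toMatrix_toPEquiv_mulVec]
  rfl

theorem setup [Fintype F] {p : ℕ} [Fact p.Prime] [CharP F p] {w : SLn} {ε : Fin n → F} (hε : ∀ i, ε i ≠ 0)
    (hw : ∀ y i, ((w : Matrix (Fin n) (Fin n) F) *ᵥ y) i = ε i * y (Fin.rev i)) :
    Setup p (GL.unitriangularSL n F) (diagSL n F) w := by
  classical
  refine ⟨GL.isPGroup_unitriangularSL p, ?_, fun t ht => ?_, fun g => ?_⟩
  · intro t ht
    rw [GL.normalizer_unitriangularSL]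
    intro i j hij
    exact ht i j hij.ne'
  · -- conjugation by the reversal
    have hwinv : ∀ y i, (((w⁻¹ : SLn) : Matrix (Fin n) (Fin n) F) *ᵥ y) i = (ε (Fin.rev i))⁻¹ * y (Fin.rev i) := by
      intro y i
      have h1 := hw (((w⁻¹ : SLn) : Matrix (Fin n) (Fin n) F) *ᵥ y) (Fin.rev i)
      rw [← mulVec_mul, mul_inv_cancel, Fin.rev_rev] at h1
      simp only [Matrix.SpecialLinearGroup.coe_one, Matrix.one_mulVec] at h1
      rw [h1, ← mul_assoc, inv_mul_cancel₀ (hε _), one_mul]
    intro i j hij
    have h1 : (((w * t * w⁻¹ : SLn) : Matrix (Fin n) (Fin n) F) *ᵥ Pi.single j 1) i = 0 := by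
      rw [mulVec_mul, mulVec_mul, hw, diag_apply ht, hwinv, Fin.rev_rev, Pi.single_eq_of_ne hij, mul_zero,
        mul_zero, mul_zero]
    rwa [Matrix.mulVec_single_one] at h1
  · -- Bruhat
    obtain ⟨b, b', σ, hb, hb', hbd, hbd', he⟩ := FlagChar.exists_bruhat n (g : Matrix (Fin n) (Fin n) F) (by rw [g.2]; exact one_ne_zero)
    by_cases hσ : ∃ i j, i < j ∧ σ i < σ j
    · left
      obtain ⟨i, j, hij, hσij⟩ := hσ
      set B : GL (Fin n) F := Matrix.GeneralLinearGroup.mkOfDetNeZero b hbd
      set B' : GL (Fin n) F := Matrix.GeneralLinearGroup.mkOfDetNeZero b' hbd'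
      have hB : B ∈ GL.borel n F := fun k l hkl => hb hkl
      have hB' : B' ∈ GL.borel n F := fun k l hkl => hb' hkl
      let t₁ : GL (Fin n) F := Matrix.SpecialLinearGroup.toGL (tr hij.ne 1)
      let t₂ : GL (Fin n) F := Matrix.SpecialLinearGroup.toGL (tr hσij.ne 1)
      have ht₁ : t₁ ∈ GL.unitriangular n F := tr_mem_unitriangular hij 1
      have ht₂ : t₂ ∈ GL.unitriangular n F := tr_mem_unitriangular hσij 1
      set G' : GL (Fin n) F := Matrix.SpecialLinearGroup.toGL g
      set P : GL (Fin n) F := B * G' * B' with hP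
      have hPmat : (P : Matrix (Fin n) (Fin n) F) = FlagChar.permMat F σ := he
      have hPt : P * t₁ = t₂ * P := by
        apply Units.ext
        rw [Units.val_mul P t₁, Units.val_mul t₂ P, hPmat]
        show FlagChar.permMat F σ * Matrix.transvection i j 1 = Matrix.transvection (σ i) (σ j) 1 * FlagChar.permMat F σ
        rw [Matrix.transvection, Matrix.transvection, mul_add, add_mul, mul_one, one_mul]
        congr 1
        ext k l
        simp [FlagChar.permMat, Matrix.mul_apply, Matrix.single_apply, ite_and, Finset.sum_ite_eq,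
          Finset.sum_ite_eq']
        by_cases hl : j = l
        · subst hl; by_cases hk : k = σ i <;> simp [hk, eq_comm]
        · simp [hl, σ.injective.ne_iff]
      have hu₁ : B' * t₁ * B'⁻¹ ∈ GL.unitriangular n F :=
        (Subgroup.mem_normalizer_iff.1 (GL.borel_le_normalizer_unitriangular hB') t₁).1 ht₁
      have hu₂ : B⁻¹ * t₂ * B ∈ GL.unitriangular n F := by
        have := (Subgroup.mem_normalizer_iff.1 (GL.borel_le_normalizer_unitriangular (inv_mem hB)) t₂).1 ht₂
        rwa [inv_inv] at this
      have hconj : G'⁻¹ * (B⁻¹ * t₂ * B) * G' = B' * t₁ * B'⁻¹ := by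
        have h1 : G'⁻¹ * (B⁻¹ * t₂ * B) * G' = B' * (P⁻¹ * (t₂ * P)) * B'⁻¹ := by rw [hP]; group
        rw [h1, ← hPt, inv_mul_cancel_left]
      rw [← GL.map_unitriangularSL] at hu₂
      obtain ⟨u, hu, huB⟩ := hu₂
      refine ⟨u, hu, fun h1 => ?_, ?_⟩
      · rw [h1, map_one] at huB
        have ht : t₂ = 1 := by
          calc t₂ = B * (B⁻¹ * t₂ * B) * B⁻¹ := by group
            _ = 1 := by rw [← huB]; group
        have h2 := congrArg (fun X : GL (Fin n) F => (X : Matrix (Fin n) (Fin n) F) (σ i) (σ j)) ht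
        simp [t₂, tr, Matrix.SpecialLinearGroup.transvection, Matrix.transvection, hσij.ne, Matrix.SpecialLinearGroup.toGL] at h2
      · show Matrix.SpecialLinearGroup.toGL (g⁻¹ * u * g) ∈ GL.unitriangular n F
        rw [map_mul, map_mul, map_inv, huB, hconj]
        exact hu₁
    · right
      push Not at hσ
      have hanti : StrictAnti σ := fun i j hij => lt_of_le_of_ne (hσ i j hij) (fun h => hij.ne (σ.injective h).symm)
      have hσrev : ∀ i, σ i = Fin.rev i := by
        have h1 : StrictMono (fun i => Fin.rev (σ i)) := fun i j hij => Fin.rev_lt_rev.2 (hanti hij)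
        intro i
        have h2 := (Finite.injective_iff_surjective.1 h1.injective)
        have h3 : (fun i => Fin.rev (σ i)) = id := by
          let e : Fin n ≃o Fin n := h1.orderIsoOfSurjective _ h2
          funext k
          show e k = k
          rw [Subsingleton.elim e (OrderIso.refl _)]
          rfl
        have := congrFun h3 i
        simp only [id_eq] at this
        rw [← Fin.rev_rev (σ i), this]
      -- split the two upper triangular factors
      have split : ∀ c : Matrix (Fin n) (Fin n) F, c.BlockTriangular id → c.det ≠ 0 →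
          ∃ (u : SLn) (d : Fin n → F), u ∈ GL.unitriangularSL n F ∧ c = (u : Matrix (Fin n) (Fin n) F) * Matrix.diagonal d := by
        intro c hc hcd
        have hd : ∀ i, c i i ≠ 0 := by
          intro i h0
          rw [Matrix.det_of_isUpperTriangular hc] at hcd
          exact hcd (Finset.prod_eq_zero (Finset.mem_univ i) h0)
        set U₀ := c * Matrix.diagonal fun i => (c i i)⁻¹
        have hU₀ : ∀ k l, U₀ k l = c k l * (c l l)⁻¹ := fun k l => Matrix.mul_diagonal _ _ _ _
        have hUt : U₀.BlockTriangular id := fun k l hkl => by rw [hU₀, hc hkl, zero_mul]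
        have hdet : U₀.det = 1 := by
          rw [Matrix.det_of_isUpperTriangular hUt]
          exact Finset.prod_eq_one fun k _ => by rw [hU₀, mul_inv_cancel₀ (hd k)]
        refine ⟨⟨U₀, hdet⟩, fun i => c i i, ?_, ?_⟩
        · show Matrix.SpecialLinearGroup.toGL _ ∈ GL.unitriangular n F
          rw [GL.mem_unitriangular]
          exact ⟨fun k l hkl => hUt hkl, fun k => by
            show U₀ k k = 1
            rw [hU₀, mul_inv_cancel₀ (hd k)]⟩
        · show c = U₀ * _
          rw [Matrix.mul_assoc, Matrix.diagonal_mul_diagonal]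
          simp [inv_mul_cancel₀ (hd _)]
      have hbu : IsUnit b.det := isUnit_iff_ne_zero.2 hbd
      have hbu' : IsUnit b'.det := isUnit_iff_ne_zero.2 hbd'
      letI := b.invertibleOfIsUnitDet hbu
      letI := b'.invertibleOfIsUnitDet hbu'
      obtain ⟨u₁, d₁, hu₁, e₁⟩ := split b⁻¹ (blockTriangular_inv_of_blockTriangular hb)
        (by rw [Matrix.det_nonsing_inv, Ring.inverse_eq_inv']; exact inv_ne_zero hbd)
      -- write the right factor as diagonal times unitriangular
      obtain ⟨v, e, hv, ev⟩ := split b' hb' hbd'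
      have he' : ∀ i, e i ≠ 0 := by
        intro i h0
        apply hbd'
        rw [ev, Matrix.det_mul, Matrix.det_diagonal, Finset.prod_eq_zero (Finset.mem_univ i) h0, mul_zero]
      have hg : (g : Matrix (Fin n) (Fin n) F) = (u₁ : Matrix (Fin n) (Fin n) F) *
          (Matrix.diagonal d₁ * FlagChar.permMat F σ * Matrix.diagonal fun i => (e i)⁻¹) *
            ((v⁻¹ : SLn) : Matrix (Fin n) (Fin n) F) := by
        have h1 : (g : Matrix (Fin n) (Fin n) F) = b⁻¹ * FlagChar.permMat F σ * b'⁻¹ := by
          rw [← he]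
          simp [Matrix.mul_assoc]
        have h2 : b'⁻¹ = (Matrix.diagonal fun i => (e i)⁻¹) * ((v⁻¹ : SLn) : Matrix (Fin n) (Fin n) F) := by
          apply Matrix.inv_eq_right_inv
          rw [ev, Matrix.mul_assoc, ← Matrix.mul_assoc (Matrix.diagonal e), Matrix.diagonal_mul_diagonal]
          simp only [mul_inv_cancel₀ (he' _), Matrix.diagonal_one, Matrix.one_mul]
          rw [← Matrix.SpecialLinearGroup.coe_mul, mul_inv_cancel, Matrix.SpecialLinearGroup.coe_one]
        rw [h1, e₁, h2]
        simp [Matrix.mul_assoc]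
      refine ⟨u₁, hu₁, w⁻¹ * (u₁⁻¹ * g * v), ?_, v⁻¹, inv_mem hv, by group⟩
      have hM : ((u₁⁻¹ * g * v : SLn) : Matrix (Fin n) (Fin n) F) =
          Matrix.diagonal d₁ * FlagChar.permMat F σ * Matrix.diagonal fun i => (e i)⁻¹ := by
        rw [Matrix.SpecialLinearGroup.coe_mul, Matrix.SpecialLinearGroup.coe_mul, hg]
        simp only [← Matrix.mul_assoc, ← Matrix.SpecialLinearGroup.coe_mul, inv_mul_cancel,
          Matrix.SpecialLinearGroup.coe_one, Matrix.one_mul]
        rw [Matrix.mul_assoc, ← Matrix.SpecialLinearGroup.coe_mul, inv_mul_cancel, Matrix.SpecialLinearGroup.coe_one,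
          Matrix.mul_one]
      intro i j hij
      have h1 := hw (((w⁻¹ * (u₁⁻¹ * g * v) : SLn) : Matrix (Fin n) (Fin n) F) *ᵥ Pi.single j 1) (Fin.rev i)
      rw [← mulVec_mul, mul_inv_cancel_left, Fin.rev_rev, hM] at h1
      rw [Matrix.mulVec_single_one, Matrix.mulVec_single_one] at h1
      simp only [Matrix.col_apply, Matrix.mul_diagonal, Matrix.diagonal_mul, FlagChar.permMat, Matrix.of_apply,
        hσrev, Fin.rev_inj, if_neg hij, mul_zero, zero_mul] at h1
      exact (mul_eq_zero.1 h1.symm).resolve_left (hε _)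

variable {k : Type*} [Field k]

/-- the simple root data -/
def root [Fintype F] [DecidableEq F] (p : ℕ) [Fact p.Prime] [CharP F p] [CharP k p] {w : SLn} {ε : Fin n → F}
    (hε : ∀ i, ε i ≠ 0) (hw : ∀ y i, ((w : Matrix (Fin n) (Fin n) F) *ᵥ y) i = ε i * y (Fin.rev i))
    {a b : Fin n} (hab : (b : ℕ) = a + 1) :
    Root k (GL.unitriangularSL n F) (diagSL n F) w Fˣ :=
  have h : a < b := Fin.lt_def.2 (by omega)
  { Ui := (rootHom h.ne).range
    le := by rintro g ⟨c, rfl⟩; exact tr_mem_unitriangular h _
    ne_bot := by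
      intro hbot
      have h1 : (tr h.ne (1 : F) : SLn) ∈ (⊥ : Subgroup SLn) := hbot ▸ (mem_rootHom _ _).2 ⟨1, rfl⟩
      have h2 := congrFun (congrArg (fun g : SLn => (g : Matrix (Fin n) (Fin n) F) *ᵥ Pi.single b 1)
        (Subgroup.mem_bot.1 h1)) a
      simp only [tr_apply] at h2
      simp [h.ne] at h2
    T_norm := by
      intro t ht
      rw [Subgroup.mem_normalizer_iff]
      intro g
      constructor
      · intro hg
        obtain ⟨c, rfl⟩ := (mem_rootHom _ _).1 hg
        exact (mem_rootHom _ _).2 ⟨_, (diag_conj_tr ht h.ne c).symm⟩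
      · intro hg
        obtain ⟨c, hc⟩ := (mem_rootHom _ _).1 hg
        have hg' : g = t⁻¹ * tr h.ne c * t⁻¹⁻¹ := by rw [hc]; group
        rw [hg', diag_conj_tr (inv_mem ht)]
        exact (mem_rootHom _ _).2 ⟨_, rfl⟩
    s := sEl h
    ss := by rw [sEl_sq]; exact coroot_mem h _
    τ := coroot h
    τ_mem := coroot_mem h
    card_J := by
      have h1 := Fintype.card_pos (α := F)
      rw [Fintype.card_units, Nat.cast_sub h1, Nat.cast_one]
      obtain ⟨f, hf, hcard⟩ := GL.card_eq_pow_char (F := F) (p := p)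
      rw [hcard, Nat.cast_pow, CharP.cast_eq_zero, zero_pow hf.ne', zero_sub]
    conj := coroot_conj h
    φ := fun c => tr h.ne (-((c⁻¹ : Fˣ) : F))
    φ_mem := fun c => ⟨(mem_rootHom _ _).2 ⟨_, rfl⟩, fun he => by
      have h2 := congrFun (congrArg (fun g : SLn => (g : Matrix (Fin n) (Fin n) F) *ᵥ Pi.single b 1) he) a
      simp only [tr_apply] at h2
      simp [h.ne] at h2⟩
    φ_inj := fun c d he => by
      have h2 := congrFun (congrArg (fun g : SLn => (g : Matrix (Fin n) (Fin n) F) *ᵥ Pi.single b 1) he) a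
      simp only [tr_apply] at h2
      simp [h.ne] at h2
      exact Units.ext h2
    φ_surj := by
      intro u hu hu1
      obtain ⟨c, rfl⟩ := (mem_rootHom _ _).1 hu
      have hc : c ≠ 0 := fun h0 => hu1 (by rw [h0, tr_zero])
      refine ⟨-(Units.mk0 c hc)⁻¹, ?_⟩
      simp
    rel := fun c => ⟨_, (mem_rootHom _ _).2 ⟨_, rfl⟩, _, (mem_rootHom _ _).2 ⟨_, rfl⟩, rel h c⟩
    split := by
      intro u hu
      obtain ⟨hu0, hu1⟩ := GL.mem_unitriangular.1 hu
      refine ⟨tr h.ne ((u : Matrix (Fin n) (Fin n) F) a b), (mem_rootHom _ _).2 ⟨_, rfl⟩, fun y hy => ?_⟩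
      obtain ⟨c, rfl⟩ := (mem_rootHom _ _).1 hy
      set q : SLn := (tr h.ne c)⁻¹ * (tr h.ne ((u : Matrix (Fin n) (Fin n) F) a b))⁻¹ * u * tr h.ne c with hq
      have hinv : ∀ d : F, (tr h.ne d : SLn)⁻¹ = tr h.ne (-d) := fun d => by
        rw [inv_eq_iff_mul_eq_one, tr_add, add_neg_cancel, tr_zero]
      have hqU : q ∈ GL.unitriangularSL n F :=
        mul_mem (mul_mem (mul_mem (inv_mem (tr_mem_unitriangular h _)) (inv_mem (tr_mem_unitriangular h _))) hu)
          (tr_mem_unitriangular h _)
      obtain ⟨hq0, hq1⟩ := GL.mem_unitriangular.1 hqU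
      have hqab : (q : Matrix (Fin n) (Fin n) F) a b = 0 := by
        have h2 : (q : Matrix (Fin n) (Fin n) F) a b =
            ((q : Matrix (Fin n) (Fin n) F) *ᵥ Pi.single b 1) a := by simp
        rw [h2, hq, mulVec_mul, mulVec_mul, mulVec_mul, hinv, hinv]
        simp only [tr_apply, if_pos rfl, if_neg h.ne', ↓reduceIte]
        have e1 : ((u : Matrix (Fin n) (Fin n) F) *ᵥ ((tr h.ne c : SLn) : Matrix (Fin n) (Fin n) F) *ᵥ Pi.single b 1) a
            = c + (u : Matrix (Fin n) (Fin n) F) a b := by
          rw [tr_mulVec h.ne c _ a, Matrix.mulVec_add, Pi.add_apply, Matrix.mulVec_single_one, Matrix.mulVec_single,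
            Pi.single_eq_same, mul_one]
          simp only [Matrix.col_apply, Pi.smul_apply, MulOpposite.smul_eq_mul_unop, MulOpposite.unop_op, smul_eq_mul]
          rw [show (u : Matrix (Fin n) (Fin n) F) a a = 1 from hu1 a]
          ring
        have e2 : ((u : Matrix (Fin n) (Fin n) F) *ᵥ ((tr h.ne c : SLn) : Matrix (Fin n) (Fin n) F) *ᵥ Pi.single b 1) b
            = 1 := by
          rw [tr_mulVec h.ne c _ a, Matrix.mulVec_add, Pi.add_apply, Matrix.mulVec_single_one, Matrix.mulVec_single,
            Pi.single_eq_same, mul_one]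
          simp only [Matrix.col_apply, Pi.smul_apply, MulOpposite.smul_eq_mul_unop, MulOpposite.unop_op, smul_eq_mul]
          rw [show (u : Matrix (Fin n) (Fin n) F) b b = 1 from hu1 b,
            show (u : Matrix (Fin n) (Fin n) F) b a = 0 from hu0 b a h]
          ring
        rw [e1, e2]
        ring
      show ((sEl h)⁻¹ * q * sEl h : SLn) ∈ GL.unitriangularSL n F
      show Matrix.SpecialLinearGroup.toGL _ ∈ GL.unitriangular n F
      rw [GL.mem_unitriangular]
      have hentry : ∀ i j, ((sEl h)⁻¹ * q * sEl h : SLn).1 i j =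
          ((((sEl h)⁻¹ : SLn) : Matrix (Fin n) (Fin n) F) *ᵥ ((q : Matrix (Fin n) (Fin n) F) *ᵥ
            ((sEl h : SLn) : Matrix (Fin n) (Fin n) F) *ᵥ Pi.single j 1)) i := fun i j => by
        rw [← mulVec_mul, ← mulVec_mul, Matrix.mulVec_single_one]; rfl
      have hs : ∀ j, ((sEl h : SLn) : Matrix (Fin n) (Fin n) F) *ᵥ Pi.single j 1 =
          if j = a then -Pi.single b 1 else if j = b then Pi.single a 1 else Pi.single j 1 := by
        intro j
        funext l
        rw [sEl_apply]
        by_cases hja : j = a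
        · subst hja
          by_cases hla : l = j
          · subst hla; simp [h.ne]
          · by_cases hlb : l = b
            · subst hlb; simp [h.ne']
            · simp [hla, hlb]
        · by_cases hjb : j = b
          · subst hjb
            by_cases hla : l = a
            · subst hla; simp [h.ne']
            · by_cases hlb : l = j
              · subst hlb; simp [h.ne, h.ne']
              · simp [hla, hlb, h.ne']
          · by_cases hla : l = a
            · subst hla; simp [hja, hjb, Ne.symm hja, Ne.symm hjb]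
            · by_cases hlb : l = b
              · subst hlb; simp [hja, hjb, Ne.symm hja, Ne.symm hjb]
              · simp [hla, hlb, hja, hjb]
      have hqe : ∀ i j, ((q : Matrix (Fin n) (Fin n) F) *ᵥ Pi.single j 1) i = (q : Matrix (Fin n) (Fin n) F) i j :=
        fun i j => by simp
      refine ⟨fun i j hji => ?_, fun i => ?_⟩
      · show ((sEl h)⁻¹ * q * sEl h : SLn).1 i j = 0
        rw [hentry, hs, sEl_inv_apply]
        by_cases hja : j = a
        · rw [if_pos hja]
          subst hja
          rw [Matrix.mulVec_neg]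
          simp only [Pi.neg_apply, hqe]
          by_cases hib : i = b
          · subst hib
            rw [if_neg h.ne', if_pos rfl]
            show -(q : Matrix (Fin n) (Fin n) F) j i = 0
            rw [hqab, neg_zero]
          · rw [if_neg hji.ne', if_neg hib]
            have : b < i := lt_of_le_of_ne (Fin.le_def.2 (by have := Fin.lt_def.1 hji; omega)) (Ne.symm hib)
            show -(q : Matrix (Fin n) (Fin n) F) i b = 0
            rw [show (q : Matrix (Fin n) (Fin n) F) i b = 0 from hq0 i b this, neg_zero]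
        · by_cases hjb : j = b
          · rw [if_neg hja, if_pos hjb]
            subst hjb
            simp only [hqe]
            rw [if_neg (lt_trans h hji).ne', if_neg hji.ne']
            exact hq0 i a (lt_trans h hji)
          · rw [if_neg hja, if_neg hjb]
            simp only [hqe]
            by_cases hia : i = a
            · subst hia
              rw [if_pos rfl, show (q : Matrix (Fin n) (Fin n) F) b j = 0 from hq0 b j (lt_trans hji h), neg_zero]
            · by_cases hib : i = b
              · subst hib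
                have : j < a := lt_of_le_of_ne (Fin.le_def.2 (by have := Fin.lt_def.1 hji; omega)) hja
                rw [if_neg hia, if_pos rfl]
                exact hq0 a j this
              · rw [if_neg hia, if_neg hib]
                exact hq0 i j hji
      · show ((sEl h)⁻¹ * q * sEl h : SLn).1 i i = 1
        rw [hentry, hs, sEl_inv_apply]
        by_cases hia : i = a
        · subst hia
          rw [if_pos rfl, if_pos rfl, Matrix.mulVec_neg, Pi.neg_apply, neg_neg, hqe]
          exact hq1 b
        · by_cases hib : i = b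
          · subst hib
            rw [if_neg hia, if_pos rfl, if_neg hia, if_pos rfl, hqe]
            exact hq1 a
          · rw [if_neg hia, if_neg hib, if_neg hia, if_neg hib, hqe]
            exact hq1 i
    factor := by
      intro y hy
      obtain ⟨c, rfl⟩ := (mem_rootHom _ _).1 hy
      have hwinv : ∀ y i, (((w⁻¹ : SLn) : Matrix (Fin n) (Fin n) F) *ᵥ y) i = (ε (Fin.rev i))⁻¹ * y (Fin.rev i) := by
        intro y i
        have h1 := hw (((w⁻¹ : SLn) : Matrix (Fin n) (Fin n) F) *ᵥ y) (Fin.rev i)
        rw [← mulVec_mul, mul_inv_cancel, Fin.rev_rev] at h1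
        simp only [Matrix.SpecialLinearGroup.coe_one, Matrix.one_mulVec] at h1
        rw [h1, ← mul_assoc, inv_mul_cancel₀ (hε _), one_mul]
      have hne : Fin.rev b ≠ Fin.rev a := fun e => h.ne' (Fin.rev_inj.1 e)
      have key : w * (sEl h)⁻¹ * tr h.ne c * (w * (sEl h)⁻¹)⁻¹ =
          tr hne (ε (Fin.rev b) * (-c) * (ε (Fin.rev a))⁻¹) := by
        rw [mul_inv_eq_iff_eq_mul]
        refine sl_ext fun y i => ?_
        have := hε (Fin.rev a)
        have := hε (Fin.rev b)
        simp only [mulVec_mul, hw, sEl_inv_apply, tr_apply, Fin.rev_rev]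
        by_cases h1 : i = Fin.rev b
        · subst h1
          simp [h.ne, h.ne']
          field_simp
          try ring
        · by_cases h2 : i = Fin.rev a
          · subst h2
            simp [h.ne, h.ne', Ne.symm hne]
          · have e1 : Fin.rev i ≠ a := fun e => h2 (by rw [← e, Fin.rev_rev])
            have e2 : Fin.rev i ≠ b := fun e => h1 (by rw [← e, Fin.rev_rev])
            simp [h1, e1, e2]
      rw [key]
      exact tr_mem_unitriangular (Fin.rev_lt_rev.2 h) _ }

theorem diagSL_le_closure [Fintype F] :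
    diagSL n F ≤ Subgroup.closure (⋃ i : {i : Fin n // (i : ℕ) + 1 < n},
      Set.range (coroot (F := F) (a := i.1) (b := ⟨i.1 + 1, i.2⟩) (Fin.lt_def.2 (by simp)))) := by
  classical
  set C := Subgroup.closure (⋃ i : {i : Fin n // (i : ℕ) + 1 < n},
    Set.range (coroot (F := F) (a := i.1) (b := ⟨i.1 + 1, i.2⟩) (Fin.lt_def.2 (by simp))))
  suffices key : ∀ (m : ℕ) (t : SLn), t ∈ diagSL n F →
      (∀ j : Fin n, m ≤ j → (t : Matrix (Fin n) (Fin n) F) j j = 1) → t ∈ C from
    fun t ht => key n t ht fun j hj => absurd j.2 (by omega)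
  intro m
  induction m with
  | zero =>
    intro t ht h1
    have : t = 1 := sl_ext fun y i => by rw [diag_apply ht, h1 i (Nat.zero_le _)]; simp
    rw [this]; exact C.one_mem
  | succ m ih =>
    intro t ht h1
    by_cases hm : m < n
    · rcases Nat.eq_zero_or_pos m with rfl | hm0
      · refine ih t ht fun j _ => ?_
        rcases Nat.eq_zero_or_pos (j : ℕ) with hj | hj
        · -- the determinant gives the last entry
          have hdet := t.2
          have hd : (t : Matrix (Fin n) (Fin n) F) = Matrix.diagonal fun i => (t : Matrix (Fin n) (Fin n) F) i i := by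
            ext k l
            by_cases hkl : k = l
            · subst hkl; simp
            · rw [ht k l hkl, Matrix.diagonal_apply_ne _ hkl]
          rw [hd, Matrix.det_diagonal, Finset.prod_eq_single j] at hdet
          · exact hdet
          · intro i _ hi
            exact h1 i (by have := Fin.val_ne_of_ne hi; omega)
          · simp
        · exact h1 j hj
      · set a : Fin n := ⟨m - 1, by omega⟩
        set b : Fin n := ⟨m, hm⟩
        have hi : (a : ℕ) + 1 < n := by show m - 1 + 1 < n; omega
        have hb : (⟨(a : ℕ) + 1, hi⟩ : Fin n) = b := Fin.ext (by show m - 1 + 1 = m; omega)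
        set c : Fˣ := Units.mk0 _ (diag_ne_zero ht b)
        have hab : a < (⟨(a : ℕ) + 1, hi⟩ : Fin n) := Fin.lt_def.2 (by simp)
        set g := coroot (F := F) hab c
        have hg : g ∈ C := Subgroup.subset_closure (Set.mem_iUnion.2 ⟨⟨a, hi⟩, c, rfl⟩)
        have hmem : t * g ∈ diagSL n F := mul_mem ht (coroot_mem hab c)
        have := ih (t * g) hmem fun j hj => by
          have h2 := diag_apply hmem (fun _ => (1 : F)) j
          rw [mulVec_mul, diag_apply ht, coroot_apply, mul_one, mul_one] at h2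
          rw [← h2]
          have hja : j ≠ a := fun e => by
            have := congrArg Fin.val e
            simp only [a] at this
            omega
          rw [if_neg hja]
          by_cases hjb : j = ⟨(a : ℕ) + 1, hi⟩
          · rw [if_pos hjb, hjb, hb]
            simp [c, diag_ne_zero ht b]
          · rw [if_neg hjb, mul_one]
            refine h1 j ?_
            rw [hb] at hjb
            have : (j : ℕ) ≠ m := fun e => hjb (Fin.ext e)
            omega
        simpa using mul_mem this (inv_mem hg)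
    · exact ih t ht fun j hj => absurd j.2 (by omega)

end Cfsg.Agent.DefChar
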