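/-
In SL(n, q) a p-subgroup which is the p-core of its normaliser (p the characteristic) and is centralised by a
non-central element of order prime to p is trivial.
-/
import Mathlib
import Cfsg.Prelude.Def_Solvable
import Cfsg.Agent.Lib.Perm.ModuleHeart

set_option autoImplicit false

open Matrix

namespace Cfsg.Agent.DefChar

universe u

variable {F : Type u} [Field F]

section Linear

variable {V : Type*} [AddCommGroup V] [Module F V]

/-- the fixed space -/
def fixedSpace {D : Type*} [Group D] (ρ : Representation F D V) : Submodule F V where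
  carrier := {v | ∀ d, ρ d v = v}
  add_mem' {a b} ha hb d := by rw [map_add, ha d, hb d]
  zero_mem' d := map_zero _
  smul_mem' c {a} ha d := by rw [map_smul, ha d]

/-- the span of the displacements -/
def commSpace {D : Type*} [Group D] (ρ : Representation F D V) : Submodule F V :=
  Submodule.span F (Set.range fun dv : D × V => ρ dv.1 dv.2 - dv.2)

theorem sub_mem_commSpace {D : Type*} [Group D] (ρ : Representation F D V) (d : D) (v : V) :
    ρ d v - v ∈ commSpace ρ := Submodule.subset_span ⟨(d, v), rfl⟩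

theorem commSpace_invariant {D : Type*} [Group D] (ρ : Representation F D V) (d : D) {w : V}
    (hw : w ∈ commSpace ρ) : ρ d w ∈ commSpace ρ := by
  have := (commSpace ρ).add_mem (sub_mem_commSpace ρ d w) hw
  rwa [sub_add_cancel] at this

/-- A `p`-group that acts non-trivially has `[V, D] + V^D` proper. -/
theorem fixed_sup_comm_ne_top {D : Type*} [Group D] [Finite D] {p : ℕ} [Fact p.Prime] [CharP F p]
    (hD : IsPGroup p D) (ρ : Representation F D V) (hne : ∃ d v, ρ d v ≠ v) :
    fixedSpace ρ ⊔ commSpace ρ ≠ ⊤ := by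
  intro htop
  let σ : Representation F D (commSpace ρ) :=
    { toFun := fun d => (ρ d).restrict fun w hw => commSpace_invariant ρ d hw
      map_one' := LinearMap.ext fun w => Subtype.ext (by simp [LinearMap.restrict_coe_apply])
      map_mul' := fun a b => LinearMap.ext fun w => Subtype.ext (by simp [LinearMap.restrict_coe_apply]) }
  have hbot : (⊤ : Submodule F (Module.Dual F (commSpace ρ))) ≠ ⊥ := by
    obtain ⟨d, v, hdv⟩ := hne
    intro h
    have hx : (⟨ρ d v - v, sub_mem_commSpace ρ d v⟩ : commSpace ρ) ≠ 0 := fun e =>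
      hdv (sub_eq_zero.1 (congrArg Subtype.val e))
    obtain ⟨f, hf⟩ := Module.Projective.exists_dual_ne_zero F hx
    have : f ∈ (⊥ : Submodule F (Module.Dual F (commSpace ρ))) := h ▸ Submodule.mem_top
    rw [Submodule.mem_bot] at this
    exact hf (by rw [this]; rfl)
  obtain ⟨f, -, hf0, hf⟩ := Cfsg.Agent.Perm.ModuleHeart.exists_fixed_ne_zero hD σ.dual
    (W := ⊤) (fun _ _ _ => Submodule.mem_top) hbot
  apply hf0
  -- `f` kills every displacement
  have hkill : ∀ d (w : commSpace ρ), f (σ d w) = f w := by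
    intro d w
    have := LinearMap.congr_fun (hf d⁻¹) w
    rw [Representation.dual_apply, inv_inv] at this
    simpa [Module.Dual.transpose_apply] using this
  refine LinearMap.ext fun w => ?_
  obtain ⟨w, hw⟩ := w
  rw [LinearMap.zero_apply]
  induction hw using Submodule.span_induction with
  | mem x hx =>
    obtain ⟨⟨d, v⟩, rfl⟩ := hx
    obtain ⟨a, ha, b, hb, hab⟩ := Submodule.mem_sup.1 (htop ▸ Submodule.mem_top : v ∈ fixedSpace ρ ⊔ commSpace ρ)
    have : (⟨ρ d v - v, sub_mem_commSpace ρ d v⟩ : commSpace ρ) = σ d ⟨b, hb⟩ - ⟨b, hb⟩ := by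
      apply Subtype.ext
      show ρ d v - v = ρ d b - b
      rw [← hab, map_add, ha d, add_sub_add_left_eq_sub]
    exact (congrArg f this).trans (by rw [map_sub, hkill, sub_self])
  | zero => exact map_zero f
  | add x y hx hy ihx ihy =>
    exact (map_add f ⟨x, hx⟩ ⟨y, hy⟩).trans (by rw [ihx, ihy, add_zero])
  | smul c x hx ihx => exact (map_smul f c ⟨x, hx⟩).trans (by rw [ihx, smul_zero])

/-- a semisimple operator (finite order prime to the characteristic) has no generalised eigenvectors -/
theorem eigen_disjoint {x : V →ₗ[F] V} {k : ℕ} (hk : (k : F) ≠ 0) (hx : x ^ k = 1) (c : F) (v : V)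
    (h : x (x v - c • v) = c • (x v - c • v)) : x v = c • v := by
  set w := x v - c • v with hw
  rcases eq_or_ne w 0 with h0 | h0
  · rwa [hw, sub_eq_zero] at h0
  exfalso
  have hiter : ∀ j : ℕ, (x ^ j) w = c ^ j • w ∧ (x ^ j) v = c ^ j • v + ((j : F) * c ^ (j - 1)) • w := by
    intro j
    induction j with
    | zero => simp
    | succ j ih =>
      obtain ⟨i1, i2⟩ := ih
      refine ⟨by rw [pow_succ', Module.End.mul_apply, i1, map_smul, h, smul_smul, ← pow_succ], ?_⟩
      have hxv : x v = c • v + w := by rw [hw, add_sub_cancel]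
      rw [pow_succ', Module.End.mul_apply, i2, map_add, map_smul, map_smul, hxv, h, smul_add, smul_smul,
        smul_smul, add_assoc, ← add_smul, Nat.add_sub_cancel, ← pow_succ]
      congr 2
      rcases Nat.eq_zero_or_pos j with rfl | hj
      · simp
      · rw [mul_assoc, ← pow_succ, Nat.sub_add_cancel hj, Nat.cast_succ]
        ring
  obtain ⟨e1, e2⟩ := hiter k
  rw [hx, Module.End.one_apply] at e1 e2
  have hc : c ^ k = 1 := by
    by_contra hne
    apply h0
    have : (1 - c ^ k) • w = 0 := by rw [sub_smul, one_smul, ← e1, sub_self]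
    exact (smul_eq_zero.1 this).resolve_left (sub_ne_zero.2 (Ne.symm hne))
  rw [hc, one_smul, left_eq_add, smul_eq_zero, mul_eq_zero] at e2
  have hc0 : c ≠ 0 := by
    rintro rfl
    rcases Nat.eq_zero_or_pos k with rfl | hk'
    · simp at hk
    · rw [zero_pow hk'.ne'] at hc; exact zero_ne_one hc
  rcases e2 with (h' | h') | h'
  · exact hk h'
  · exact pow_ne_zero _ hc0 h'
  · exact h0 h'

end Linear

variable {n : ℕ}

local notation "SLn" => Matrix.SpecialLinearGroup (Fin n) F

/-- the natural representation of a subgroup -/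
noncomputable def natRep (D : Subgroup SLn) : Representation F D (Fin n → F) where
  toFun d := Matrix.toLin' ((d : SLn) : Matrix (Fin n) (Fin n) F)
  map_one' := by simp [Module.End.one_eq_id]
  map_mul' a b := by simp [Matrix.toLin'_mul, Module.End.mul_eq_comp]

theorem natRep_apply (D : Subgroup SLn) (d : D) (v : Fin n → F) :
    natRep D d v = ((d : SLn) : Matrix (Fin n) (Fin n) F) *ᵥ v := Matrix.toLin'_apply _ _

/-- **Radical p-subgroups with a non-central p-regular centraliser are trivial.** -/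
theorem radical_trivial [Fintype F] {p : ℕ} [Fact p.Prime] [CharP F p] (D : Subgroup SLn)
    (hD : IsPGroup p D)
    (hrad : (Cfsg.pCore p (Subgroup.normalizer (D : Set SLn))).map
      (Subgroup.normalizer (D : Set SLn)).subtype = D)
    (x : SLn) (hx : ¬ p ∣ orderOf x) (hxD : ∀ d ∈ D, Commute x d) :
    D = ⊥ ∨ x ∈ Subgroup.center SLn := by
  classical
  by_cases hDbot : D = ⊥
  · exact Or.inl hDbot
  right
  set ρ := natRep D with hρ
  have hne : ∃ d v, ρ d v ≠ v := by
    by_contra h
    push Not at h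
    apply hDbot
    refine (Subgroup.eq_bot_iff_forall D).2 fun d hd => Subtype.ext ?_
    apply Matrix.toLin'.injective
    refine LinearMap.ext fun v => ?_
    have := h ⟨d, hd⟩ v
    rw [hρ, natRep_apply] at this
    simpa using this
  set T := fixedSpace ρ ⊔ commSpace ρ with hT
  have hTtop : T ≠ ⊤ := fixed_sup_comm_ne_top hD ρ hne
  -- the abelian group of rank one maps through the top and the bottom
  have elem : ∀ (v : Fin n → F) (f : (Fin n → F) →ₗ[F] F), v ∈ fixedSpace ρ → (∀ t ∈ T, f t = 0) →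
      ∃ a : SLn, (∀ y, (a : Matrix (Fin n) (Fin n) F) *ᵥ y = y + f y • v) := by
    intro v f hv hf
    have hfv : f v = 0 := hf v (Submodule.mem_sup_left hv)
    refine ⟨⟨1 + Matrix.vecMulVec v (fun i => f (Pi.single i 1)), ?_⟩, fun y => ?_⟩
    · rw [Matrix.vecMulVec_eq Unit, Matrix.det_one_add_replicateCol_mul_replicateRow]
      have : (fun i => f (Pi.single i 1)) ⬝ᵥ v = f v := by
        conv_rhs => rw [pi_eq_sum_univ' v]
        simp [dotProduct, mul_comm]
      rw [this, hfv, add_zero]
    · show (1 + Matrix.vecMulVec v (fun i => f (Pi.single i 1))) *ᵥ y = _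
      rw [Matrix.add_mulVec, Matrix.one_mulVec, Matrix.vecMulVec_mulVec, op_smul_eq_smul]
      congr 2
      conv_rhs => rw [pi_eq_sum_univ' y]
      simp [dotProduct, mul_comm]
  let A : Subgroup SLn :=
    { carrier := {a | ∀ y, (a : Matrix (Fin n) (Fin n) F) *ᵥ y - y ∈ fixedSpace ρ ∧
        ∀ t ∈ T, (a : Matrix (Fin n) (Fin n) F) *ᵥ t = t}
      one_mem' := fun y => ⟨by simp, fun t _ => by simp⟩
      mul_mem' := fun {a b} ha hb y => by
        refine ⟨?_, fun t ht => ?_⟩
        · rw [Matrix.SpecialLinearGroup.coe_mul, ← Matrix.mulVec_mulVec]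
          have := (fixedSpace ρ).add_mem (ha ((b : Matrix (Fin n) (Fin n) F) *ᵥ y)).1 (hb y).1
          rwa [sub_add_sub_cancel] at this
        · rw [Matrix.SpecialLinearGroup.coe_mul, ← Matrix.mulVec_mulVec, (hb y).2 t ht, (ha y).2 t ht]
      inv_mem' := fun {a} ha y => by
        have hinv : ∀ z, (a : Matrix (Fin n) (Fin n) F) *ᵥ ((a⁻¹ : SLn) : Matrix (Fin n) (Fin n) F) *ᵥ z = z := by
          intro z
          rw [Matrix.mulVec_mulVec, ← Matrix.SpecialLinearGroup.coe_mul, mul_inv_cancel]
          simp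
        have hinv' : ∀ z, ((a⁻¹ : SLn) : Matrix (Fin n) (Fin n) F) *ᵥ (a : Matrix (Fin n) (Fin n) F) *ᵥ z = z := by
          intro z
          rw [Matrix.mulVec_mulVec, ← Matrix.SpecialLinearGroup.coe_mul, inv_mul_cancel]
          simp
        refine ⟨?_, fun t ht => ?_⟩
        · have h2 := (ha (((a⁻¹ : SLn) : Matrix (Fin n) (Fin n) F) *ᵥ y)).1
          rw [hinv] at h2
          simpa using (fixedSpace ρ).neg_mem h2
        · conv_lhs => rw [← (ha y).2 t ht]
          exact hinv' t }
  have hmemA : ∀ a, a ∈ A ↔ ∀ y, (a : Matrix (Fin n) (Fin n) F) *ᵥ y - y ∈ fixedSpace ρ ∧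
      ∀ t ∈ T, (a : Matrix (Fin n) (Fin n) F) *ᵥ t = t := fun a => Iff.rfl
  have hAT : ∀ a ∈ A, ∀ y, (a : Matrix (Fin n) (Fin n) F) *ᵥ y - y ∈ T := fun a ha y =>
    Submodule.mem_sup_left ((hmemA a).1 ha y).1
  -- `A` commutes with `D`
  have hAD : ∀ a ∈ A, ∀ d ∈ D, Commute a d := by
    intro a ha d hd
    apply Subtype.ext
    apply Matrix.toLin'.injective
    refine LinearMap.ext fun y => ?_
    simp only [Matrix.SpecialLinearGroup.coe_mul, Matrix.toLin'_apply, ← Matrix.mulVec_mulVec]
    have h1 := ((hmemA a).1 ha y).1 ⟨d, hd⟩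
    rw [hρ, natRep_apply, Matrix.mulVec_sub] at h1
    have h2 : (d : Matrix (Fin n) (Fin n) F) *ᵥ y - y ∈ T :=
      Submodule.mem_sup_right (by simpa [hρ, natRep_apply] using sub_mem_commSpace ρ ⟨d, hd⟩ y)
    have h3 := ((hmemA a).1 ha y).2 _ h2
    rw [Matrix.mulVec_sub] at h3
    linear_combination (norm := module) h3 - h1
  -- `A` is a p-group
  have hAp : IsPGroup p A := by
    intro a
    refine ⟨1, Subtype.ext (Subtype.ext ?_)⟩
    rw [pow_one, SubmonoidClass.coe_pow, Matrix.SpecialLinearGroup.coe_pow]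
    apply Matrix.toLin'.injective
    refine LinearMap.ext fun y => ?_
    have hk : ∀ k : ℕ, ((a : SLn) : Matrix (Fin n) (Fin n) F) ^ k *ᵥ y =
        y + (k : F) • (((a : SLn) : Matrix (Fin n) (Fin n) F) *ᵥ y - y) := by
      intro k
      induction k with
      | zero => simp
      | succ k ih =>
        rw [pow_succ', ← Matrix.mulVec_mulVec, ih, Matrix.mulVec_add, Matrix.mulVec_smul,
          ((hmemA a).1 a.2 y).2 _ (hAT a a.2 y), Nat.cast_succ, add_smul, one_smul]
        abel
    rw [Matrix.toLin'_apply, hk p, CharP.cast_eq_zero, zero_smul, add_zero]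
    simp
  -- the normaliser of `D` normalises `A`
  have hnormA : Subgroup.normalizer (D : Set SLn) ≤ Subgroup.normalizer (A : Set SLn) := by
    have key : ∀ g ∈ Subgroup.normalizer (D : Set SLn),
        (∀ v ∈ fixedSpace ρ, (g : Matrix (Fin n) (Fin n) F) *ᵥ v ∈ fixedSpace ρ) ∧
        ∀ v ∈ T, (g : Matrix (Fin n) (Fin n) F) *ᵥ v ∈ T := by
      intro g hg
      have hconj : ∀ d ∈ D, g * d * g⁻¹ ∈ D := fun d hd => (Subgroup.mem_normalizer_iff.1 hg d).1 hd
      have h1 : ∀ v ∈ fixedSpace ρ, (g : Matrix (Fin n) (Fin n) F) *ᵥ v ∈ fixedSpace ρ := by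
        intro v hv ⟨d, hd⟩
        have hd' : g⁻¹ * d * g ∈ D := by
          simpa using (Subgroup.mem_normalizer_iff.1 (inv_mem hg) d).1 hd
        have h := hv ⟨_, hd'⟩
        rw [hρ, natRep_apply] at h ⊢
        calc ((d : SLn) : Matrix (Fin n) (Fin n) F) *ᵥ (g : Matrix (Fin n) (Fin n) F) *ᵥ v
            = (g : Matrix (Fin n) (Fin n) F) *ᵥ (((g⁻¹ * d * g : SLn)) : Matrix (Fin n) (Fin n) F) *ᵥ v := by
              rw [Matrix.mulVec_mulVec, Matrix.mulVec_mulVec, ← Matrix.SpecialLinearGroup.coe_mul,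
                ← Matrix.SpecialLinearGroup.coe_mul, ← mul_assoc, mul_inv_cancel_left]
          _ = _ := by rw [h]
      refine ⟨h1, fun v hv => ?_⟩
      obtain ⟨a, ha, b, hb, rfl⟩ := Submodule.mem_sup.1 hv
      rw [Matrix.mulVec_add]
      refine T.add_mem (Submodule.mem_sup_left (h1 a ha)) (Submodule.mem_sup_right ?_)
      clear hv
      induction hb using Submodule.span_induction with
      | mem z hz =>
        obtain ⟨⟨⟨d, hd⟩, w⟩, rfl⟩ := hz
        have h := sub_mem_commSpace ρ ⟨_, hconj d hd⟩ ((g : Matrix (Fin n) (Fin n) F) *ᵥ w)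
        simp only [hρ, natRep_apply] at h ⊢
        rw [Matrix.mulVec_mulVec _ ((g * d * g⁻¹ : SLn) : Matrix (Fin n) (Fin n) F),
          ← Matrix.SpecialLinearGroup.coe_mul, inv_mul_cancel_right, Matrix.SpecialLinearGroup.coe_mul,
          ← Matrix.mulVec_mulVec] at h
        rw [Matrix.mulVec_sub]
        exact h
      | zero => simp
      | add z z' _ _ i i' => rw [Matrix.mulVec_add]; exact Submodule.add_mem _ i i'
      | smul c z _ i => rw [Matrix.mulVec_smul]; exact Submodule.smul_mem _ c i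
    intro g hg
    rw [Subgroup.mem_normalizer_iff]
    have half : ∀ g ∈ Subgroup.normalizer (D : Set SLn), ∀ a ∈ A, g * a * g⁻¹ ∈ A := by
      intro g hg a ha
      rw [hmemA]
      intro y
      have hgi : ∀ z, (g : Matrix (Fin n) (Fin n) F) *ᵥ ((g⁻¹ : SLn) : Matrix (Fin n) (Fin n) F) *ᵥ z = z := by
        intro z
        rw [Matrix.mulVec_mulVec, ← Matrix.SpecialLinearGroup.coe_mul, mul_inv_cancel]
        simp
      simp only [Matrix.SpecialLinearGroup.coe_mul, ← Matrix.mulVec_mulVec]
      refine ⟨?_, fun t ht => ?_⟩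
      · have := (key g hg).1 _ ((hmemA a).1 ha (((g⁻¹ : SLn) : Matrix (Fin n) (Fin n) F) *ᵥ y)).1
        rwa [Matrix.mulVec_sub, hgi] at this
      · rw [((hmemA a).1 ha y).2 _ ((key g⁻¹ (inv_mem hg)).2 t ht), hgi]
    refine fun a => ⟨half g hg a, fun ha => ?_⟩
    simpa [mul_assoc] using half g⁻¹ (inv_mem hg) _ ha
  -- hence `A ≤ D`
  have hAle : A ≤ D := by
    have hAN : A ≤ Subgroup.normalizer (D : Set SLn) := fun a ha => by
      rw [Subgroup.mem_normalizer_iff]
      intro d
      constructor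
      · intro hd
        rwa [(hAD a ha d hd).eq, mul_inv_cancel_right]
      · intro hd
        have h := hAD a ha _ hd
        have : d = a * d * a⁻¹ := by
          have h' := h.eq
          calc d = a⁻¹ * ((a * d * a⁻¹) * a) := by group
            _ = a⁻¹ * (a * (a * d * a⁻¹)) := by rw [h']
            _ = a * d * a⁻¹ := by group
        rwa [this]
    rw [← hrad]
    intro a ha
    refine ⟨⟨a, hAN ha⟩, ?_, rfl⟩
    suffices hmem : A.subgroupOf (Subgroup.normalizer (D : Set SLn)) ∈
        {N' : Subgroup (Subgroup.normalizer (D : Set SLn)) | N'.Normal ∧ IsPGroup p N'} by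
      exact le_sSup hmem ha
    refine ⟨?_, ?_⟩
    · refine ⟨fun y hy z => ?_⟩
      exact ((Subgroup.mem_normalizer_iff.1 (hnormA z.2) y.1).1 hy)
    · exact hAp.of_injective (Subgroup.subgroupOfEquivOfLe hAN).toMonoidHom
        (Subgroup.subgroupOfEquivOfLe hAN).injective
  -- so `x` is scalar on the fixed space and on the top
  set X := Matrix.toLin' (x : Matrix (Fin n) (Fin n) F) with hX
  have hcomm : ∀ (v : Fin n → F) (f : (Fin n → F) →ₗ[F] F), v ∈ fixedSpace ρ → (∀ t ∈ T, f t = 0) →
      ∀ y, f y • X v = f (X y) • v := by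
    intro v f hv hf y
    obtain ⟨a, ha⟩ := elem v f hv hf
    have haA : a ∈ A := (hmemA a).2 fun y => ⟨by rw [ha, add_sub_cancel_left]; exact Submodule.smul_mem _ _ hv,
      fun t ht => by rw [ha, hf t ht, zero_smul, add_zero]⟩
    have h := congrArg (fun g : SLn => (g : Matrix (Fin n) (Fin n) F) *ᵥ y) (hxD a (hAle haA)).eq
    simp only [Matrix.SpecialLinearGroup.coe_mul, ← Matrix.mulVec_mulVec, ha, Matrix.mulVec_add,
      Matrix.mulVec_smul] at h
    simpa [hX] using h
  obtain ⟨y₀, hy₀⟩ : ∃ y, y ∉ T := by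
    by_contra h; push Not at h; exact hTtop (eq_top_iff.2 fun z _ => h z)
  obtain ⟨f₀, hf₀, hfle⟩ := Submodule.exists_le_ker_of_notMem hy₀
  set c := f₀ (X y₀) / f₀ y₀ with hc
  have hfix : ∀ v ∈ fixedSpace ρ, X v = c • v := by
    intro v hv
    have := hcomm v f₀ hv (fun t ht => LinearMap.mem_ker.1 (hfle ht)) y₀
    rw [hc, div_eq_inv_mul, mul_smul, ← this, inv_smul_smul₀ hf₀]
  -- the eigenspace and its complement
  haveI : Finite D := Finite.of_injective _ Subtype.val_injective
  set W := LinearMap.range (X - c • (LinearMap.id : (Fin n → F) →ₗ[F] (Fin n → F))) with hW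
  have hWD : ∀ (d : D), ∀ w ∈ W, ρ d w ∈ W := by
    rintro d _ ⟨z, rfl⟩
    refine ⟨ρ d z, ?_⟩
    have h : X (ρ d z) = ρ d (X z) := by
      simp only [hX, hρ, natRep_apply, Matrix.toLin'_apply, Matrix.mulVec_mulVec,
        ← Matrix.SpecialLinearGroup.coe_mul, (hxD d.1 d.2).eq]
    simp [h, map_sub, map_smul]
  have hWbot : W = ⊥ := by
    by_contra hne
    obtain ⟨w, hwW, hw0, hw⟩ := Cfsg.Agent.Perm.ModuleHeart.exists_fixed_ne_zero hD ρ hWD hne
    obtain ⟨z, rfl⟩ := hwW
    apply hw0
    have hk : (orderOf x : F) ≠ 0 := fun h => hx ((CharP.cast_eq_zero_iff F p _).1 h)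
    have hXk : X ^ orderOf x = 1 := by
      rw [hX, ← Matrix.toLin'_pow, ← Matrix.SpecialLinearGroup.coe_pow, pow_orderOf_eq_one]
      simp [Module.End.one_eq_id]
    have := eigen_disjoint hk hXk c z (by
      have h2 := hfix _ hw
      simpa using h2)
    simp [this]
  have hscalar : ∀ v, X v = c • v := fun v => by
    have : (X - c • (LinearMap.id : (Fin n → F) →ₗ[F] (Fin n → F))) v ∈ W := ⟨v, rfl⟩
    rw [hWbot, Submodule.mem_bot] at this
    exact sub_eq_zero.1 (by simpa using this)
  rw [Subgroup.mem_center_iff]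
  intro g
  apply Subtype.ext
  apply Matrix.toLin'.injective
  refine LinearMap.ext fun v => ?_
  simp only [Matrix.SpecialLinearGroup.coe_mul, Matrix.toLin'_mul, LinearMap.comp_apply, ← hX, hscalar,
    map_smul]

end Cfsg.Agent.DefChar
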