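/-
The blocks of SL(n, q) in defining characteristic: defect zero or full defect, and at most one of defect zero.
-/
import Mathlib
import Cfsg.Agent.Lib.DefChar.Radical
import Cfsg.Agent.Lib.DefChar.BigCell
import Cfsg.Agent.S0955
import Cfsg.Agent.Lib.Blocks.Defect
import Cfsg.Agent.Lib.Char.Descend

set_option autoImplicit false
set_option linter.style.haveILetI false

namespace Cfsg.Agent.DefChar

open Cfsg.Agent.Blocks

universe u

variable {F : Type u} [Field F] [Fintype F] {n : ℕ} {p : ℕ} [hp : Fact p.Prime] [CharP F p]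
  {M : Ideal AlgInt} [M.IsMaximal]

local notation "SLn" => Matrix.SpecialLinearGroup (Fin n) F

/-- A defect class lies at a trivial defect group or at the centre. -/
theorem defect_class_cases (hpM : (p : AlgInt) ∈ M) {B : Set (IrrCharacter SLn)} (hB : IsPBlock M B) {g : SLn}
    (hg : IsDefectClass M B g) :
    blockDefect p B = 0 ∨ g ∈ Subgroup.center SLn := by
  obtain ⟨D, hD⟩ := exists_sylIn (p := p) (Subgroup.centralizer ({g} : Set SLn))
  have hDg : IsDefectGroup p M B D := isDefectGroup_iff.2 ⟨g, hg, hD⟩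
  rcases radical_trivial D (IsDefectGroup.isPGroup hDg)
      (Cfsg.Agent.S0955.result p M ⟨hp.out, inferInstance, hpM⟩ B hB D hDg) g
      (IsDefectClass.isPRegular hpM hB hg)
      (fun d hd => (Subgroup.mem_centralizer_singleton_iff.1 (hD.1 hd)).symm) with h | h
  · left
    have hc := card_defectGroup hpM hB hDg
    rw [h, Subgroup.card_bot] at hc
    exact ((pow_eq_one_iff).1 hc.symm).resolve_left hp.out.ne_one
  · exact Or.inr h

theorem defect_cases (hpM : (p : AlgInt) ∈ M) {B : Set (IrrCharacter SLn)} (hB : IsPBlock M B) :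
    blockDefect p B = 0 ∨ blockDefect p B = (Nat.card SLn).factorization p := by
  obtain ⟨g, hg⟩ := exists_defectClass hB
  refine (defect_class_cases hpM hB hg).imp_right fun h => ?_
  rw [blockDefect_eq hpM hB hg, Subgroup.centralizer_eq_top_iff_subset.2 (Set.singleton_subset_iff.2 h),
    Subgroup.card_top]

/-- Every Sylow subgroup is a defect group of a block of full defect. -/
theorem isDefectGroup_sylow (hpM : (p : AlgInt) ∈ M) {B : Set (IrrCharacter SLn)} (hB : IsPBlock M B)
    (h0 : blockDefect p B ≠ 0) (P : Sylow p SLn) : IsDefectGroup p M B (P : Subgroup SLn) := by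
  obtain ⟨g, hg⟩ := exists_defectClass hB
  have h := (defect_class_cases hpM hB hg).resolve_left h0
  refine isDefectGroup_iff.2 ⟨g, hg, ?_, ?_⟩
  · rw [Subgroup.centralizer_eq_top_iff_subset.2 (Set.singleton_subset_iff.2 h)]
    exact le_top
  · rw [Subgroup.centralizer_eq_top_iff_subset.2 (Set.singleton_subset_iff.2 h), Subgroup.card_top]
    exact P.card_eq_multiplicity

omit [CharP F p] in
/-- A block of defect zero is a single character. -/
theorem defect_zero_singleton (hpM : (p : AlgInt) ∈ M) {B : Set (IrrCharacter SLn)} (hB : IsPBlock M B)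
    (h0 : blockDefect p B = 0) :
    ∃ χ, B = {χ} ∧ (Char.degree χ).factorization p = (Nat.card SLn).factorization p := by
  obtain ⟨χ, hχ⟩ := block_nonempty hB
  have hle : (Char.degree χ).factorization p ≤ (Nat.card SLn).factorization p :=
    (Nat.factorization_le_iff_dvd (Char.degree_pos χ).ne' Nat.card_pos.ne').2
      (by rw [← charDegree_eq]; exact Char.charDegree_dvd_card χ) p
  have hinf : sInf ((fun ψ : IrrCharacter SLn => (charDegree ψ.1).factorization p) '' B) ≤
      (charDegree χ.1).factorization p := Nat.sInf_le ⟨χ, hχ, rfl⟩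
  rw [blockDefect] at h0
  rw [charDegree_eq] at hinf
  have heq : (Char.degree χ).factorization p = (Nat.card SLn).factorization p := by omega
  exact ⟨χ, by rw [block_eq hB hχ, (blockOf_eq_singleton_iff hpM χ).2 heq], heq⟩

omit [CharP F p] in
/-- The idempotent of a character of defect zero lives on elements of `p'`-centraliser. -/
theorem free_of_defect_zero (hpM : (p : AlgInt) ∈ M) (χ : IrrCharacter SLn)
    (hχ : (Char.degree χ).factorization p = (Nat.card SLn).factorization p) (g : SLn)
    (hg : p ∣ Nat.card (Subgroup.centralizer ({g} : Set SLn))) :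
    MemLocalIdeal M (blockCoeff ({χ} : Set (IrrCharacter SLn)) g) := by
  classical
  set N := Nat.card SLn
  set C := Nat.card (Subgroup.centralizer ({g} : Set SLn))
  set d := Char.degree χ
  have hN : N ≠ 0 := Nat.card_pos.ne'
  have hC : C ≠ 0 := Nat.card_pos.ne'
  have hd : d ≠ 0 := (Char.degree_pos χ).ne'
  have hidx : ((Subgroup.centralizer ({g} : Set SLn)).index : ℂ) * (C : ℂ) = (N : ℂ) := by
    exact_mod_cast (mul_comm _ _).trans (Subgroup.centralizer ({g} : Set SLn)).card_mul_index
  have hval : blockCoeff ({χ} : Set (IrrCharacter SLn)) g =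
      ((d * d * C : ℕ) : ℂ) / ((N * N : ℕ) : ℂ) * (starRingEnd ℂ) (centralChar χ.1 g) := by
    rw [blockCoeff_eq_sum, centralChar, map_div₀, map_mul, map_natCast]
    simp only [Set.mem_singleton_iff, Finset.filter_eq', Finset.mem_univ, if_true, Finset.sum_singleton,
      Char.apply_one_eq_degree, map_natCast]
    have hd' : (d : ℂ) ≠ 0 := Nat.cast_ne_zero.2 hd
    have hN' : (N : ℂ) ≠ 0 := Nat.cast_ne_zero.2 hN
    push_cast
    simp only [show Char.degree χ = d from rfl]
    field_simp
    linear_combination -((starRingEnd ℂ) (χ.1 g) * (N : ℂ)) * hidx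
  rw [hval]
  refine MemLocalIdeal.mul_right (memLocalIdeal_natCast_div hpM (by simp [hd, hC]) (by simp [hN]) ?_)
    (memLocalRing_of_isIntegral (IsIntegral.map (starRingEnd ℂ).toIntAlgHom (isIntegral_centralChar χ g)))
  rw [Nat.factorization_mul hN hN, Nat.factorization_mul (by simp [hd]) hC, Nat.factorization_mul hd hd]
  simp only [Finsupp.add_apply]
  have := hp.out.factorization_pos_of_dvd hC hg
  omega

/-- **At most one character of defect zero.** -/
theorem eq_of_defect_zero (hn : 1 ≤ n) (hpM : (p : AlgInt) ∈ M) (χ χ' : IrrCharacter SLn)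
    (hχ : (Char.degree χ).factorization p = (Nat.card SLn).factorization p)
    (hχ' : (Char.degree χ').factorization p = (Nat.card SLn).factorization p) : χ = χ' := by
  classical
  by_contra hne
  letI : Field (AlgInt ⧸ M) := Ideal.Quotient.field M
  haveI : CharP (AlgInt ⧸ M) p := charP_residue hpM
  obtain ⟨w, ε, hε, hw⟩ := exists_w (F := F) (n := n) (by omega)
  have hB : IsPBlock M ({χ} : Set (IrrCharacter SLn)) := by
    rw [← (blockOf_eq_singleton_iff hpM χ).2 hχ]; exact isPBlock_blockOf χ
  have hB' : IsPBlock M ({χ'} : Set (IrrCharacter SLn)) := by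
    rw [← (blockOf_eq_singleton_iff hpM χ').2 hχ']; exact isPBlock_blockOf χ'
  have hne0 : ∀ (ψ : IrrCharacter SLn), IsPBlock M ({ψ} : Set (IrrCharacter SLn)) →
      redA M (blockIdem ({ψ} : Set (IrrCharacter SLn))) ≠ 0 := by
    intro ψ hψ h0
    obtain ⟨g, hg⟩ := exists_defectClass hψ
    have := (redA_eq_zero_iff (scoeff_blockIdem hψ)).1 h0 g
    rw [coeff_blockIdem] at this
    exact hg.2.1 this
  have hfree : ∀ (ψ : IrrCharacter SLn), (Char.degree ψ).factorization p = (Nat.card SLn).factorization p →
      IsPBlock M ({ψ} : Set (IrrCharacter SLn)) →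
      ∀ g, (redA M (blockIdem ({ψ} : Set (IrrCharacter SLn)))).coeff g ≠ 0 →
        ∀ x ∈ GL.unitriangularSL n F, x * g = g * x → x = 1 := by
    intro ψ hψ hψB g hg x hx hxg
    by_contra hx1
    apply hg
    rw [coeff_redA, coeff_blockIdem, red_eq_zero_iff (memLocalRing_blockCoeff hψB g)]
    refine free_of_defect_zero hpM ψ hψ g ?_
    obtain ⟨j, hj⟩ := (GL.isPGroup_unitriangularSL (F := F) p (n := n)) ⟨x, hx⟩
    have hj' : x ^ p ^ j = 1 := congrArg Subtype.val hj
    obtain ⟨i, -, hi⟩ := (Nat.dvd_prime_pow hp.out).1 (orderOf_dvd_of_pow_eq_one hj')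
    rcases Nat.eq_zero_or_pos i with rfl | hi0
    · exact absurd (orderOf_eq_one_iff.1 (by simpa using hi)) hx1
    · refine (hi ▸ dvd_pow_self p hi0.ne' : p ∣ orderOf x).trans ?_
      rw [← Subgroup.orderOf_mk x (Subgroup.mem_centralizer_singleton_iff.2 hxg)]
      exact orderOf_dvd_natCard _
  refine no_two_idempotents (p := p) (k := AlgInt ⧸ M)
    (fun i : {i : Fin n // (i : ℕ) + 1 < n} => root p hε hw (a := i.1) (b := ⟨i.1 + 1, i.2⟩) rfl)
    diagSL_le_closure (setup hε hw)
    (redA M (blockIdem ({χ} : Set (IrrCharacter SLn)))) (redA M (blockIdem ({χ'} : Set (IrrCharacter SLn))))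
    (isCentralElt_redA (isCentralElt_blockIdem _)) (isCentralElt_redA (isCentralElt_blockIdem _))
    ?_ ?_ ?_ (hne0 χ hB) (hne0 χ' hB') (hfree χ hχ hB) (hfree χ' hχ' hB')
  · rw [← redA_mul (scoeff_blockIdem hB) (scoeff_blockIdem hB), blockIdem_mul_self]
  · rw [← redA_mul (scoeff_blockIdem hB') (scoeff_blockIdem hB'), blockIdem_mul_self]
  · rw [← redA_mul (scoeff_blockIdem hB) (scoeff_blockIdem hB'), blockIdem_mul,
      Set.singleton_inter_eq_empty.2 (by simpa using hne)]
    refine (redA_eq_zero_iff fun g => ?_).2 fun g => ?_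
    all_goals rw [coeff_blockIdem, blockCoeff, finsum_mem_empty, mul_zero]
    · exact memLocalRing_zero
    · exact memLocalIdeal_zero

end Cfsg.Agent.DefChar
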