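/-
The Steinberg character of SL(n, q): the unipotent character of `GL_n` of the partition `1^n`, restricted.
-/
import Mathlib
import Cfsg.Agent.Lib.FlagChar.Main
import Cfsg.Agent.Lib.Char.Clifford
import Cfsg.Agent.Lib.Char.PRegular
import Cfsg.Agent.Lib.Blocks.PrimePowerDegree
import Cfsg.Agent.Lib.GL.Sylow

set_option autoImplicit false
set_option linter.style.haveILetI false

namespace Cfsg.Agent.DefChar

open Finset FlagChar

universe u

theorem qInt_add (q a b : ℕ) : qInt q (a + b) = qInt q a + q ^ a * qInt q b := by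
  rw [qInt, qInt, qInt, sum_range_add, mul_sum]
  congr 1
  exact sum_congr rfl fun l _ => pow_add q a l

theorem sum_succ_eq_choose (n : ℕ) : ∑ i : Fin n, (i.val + 1) = (n + 1).choose 2 := by
  induction n with
  | zero => rfl
  | succ n ih =>
    rw [Fin.sum_univ_castSucc, Nat.choose_succ_succ (n + 1) 1, Nat.choose_one_right]
    simp only [Fin.val_castSucc, Fin.val_last, ih]
    ring

/-- The Vandermonde product of the `q`-integers. -/
theorem prod_qInt_sub (q n : ℕ) :
    ∏ i : Fin n, ∏ j : Fin n, (if i < j then (qInt q (1 + j.val) : ℂ) - qInt q (1 + i.val) else 1) =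
      (q : ℂ) ^ (n.choose 3 + n.choose 2) * ∏ i : Fin n, (qFact q i.val : ℂ) := by
  induction n with
  | zero => simp
  | succ n ih =>
    have hcol : ∏ i : Fin n, ((qInt q (1 + n) : ℂ) - qInt q (1 + i.val)) =
        (q : ℂ) ^ (n + 1).choose 2 * qFact q n := by
      have h1 : ∀ i : Fin n, (qInt q (1 + n) : ℂ) - qInt q (1 + i.val) =
          (q : ℂ) ^ (i.val + 1) * qInt q (n - i.val) := by
        intro i
        rw [show 1 + n = (i.val + 1) + (n - i.val) by have := i.2; omega, qInt_add, show 1 + i.val = i.val + 1 by omega]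
        push_cast
        ring
      rw [prod_congr rfl fun i _ => h1 i, prod_mul_distrib, prod_pow_eq_pow_sum, sum_succ_eq_choose,
        Fin.prod_univ_eq_prod_range (fun i => (qInt q (n - i) : ℂ)) n, qFact, Nat.cast_prod,
        ← prod_range_reflect (fun j => (qInt q (j + 1) : ℂ)) n]
      congr 1
      exact prod_congr rfl fun i hi => by
        rw [show n - 1 - i + 1 = n - i by have := mem_range.1 hi; omega]
    simp only [Fin.prod_univ_castSucc, Fin.castSucc_lt_castSucc_iff, Fin.castSucc_lt_last, if_true,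
      Fin.val_castSucc, Fin.val_last, prod_mul_distrib, ih, hcol, not_lt.2 (Fin.le_last _), if_false,
      prod_const_one, lt_irrefl, mul_one]
    rw [Nat.choose_succ_succ n 2]
    simp only [pow_add]
    ring

variable {F : Type u} [Field F] [Fintype F] {n : ℕ}

/-- The degree of the Steinberg character of `GL_n`. -/
theorem steinberg_degree :
    unipotentCharacterGL n F (fun _ => 1) 1 = (Fintype.card F : ℂ) ^ (n * (n - 1) / 2) := by
  classical
  set q := Fintype.card F
  have h := degree_formula (F := F) (q := q) rfl (fun _ : Fin n => 1) (by simp)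
  simp only [Finset.prod_filter] at h
  rw [prod_qInt_sub] at h
  have hA : n * (n - 1) * (n - 2) / 6 = n.choose 3 := by
    rw [Nat.choose_eq_descFactorial_div_factorial]
    simp [Nat.descFactorial, Nat.factorial]
    congr 1
    ring
  have hP : ∏ i : Fin n, (qFact q (1 + i.val) : ℂ) = qFact q n * ∏ i : Fin n, (qFact q i.val : ℂ) := by
    rw [Fin.prod_univ_eq_prod_range (fun i => (qFact q (1 + i) : ℂ)) n,
      Fin.prod_univ_eq_prod_range (fun i => (qFact q i : ℂ)) n, mul_comm, ← prod_range_succ,
      prod_range_succ']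
    simp [add_comm 1, qFact]
  rw [hA, hP] at h
  rw [← Nat.choose_two_right]
  have hq : 1 ≤ q := Fintype.card_pos
  have hne : (q : ℂ) ^ n.choose 3 * ((qFact q n : ℂ) * ∏ i : Fin n, (qFact q i.val : ℂ)) ≠ 0 := by
    refine mul_ne_zero (pow_ne_zero _ (Nat.cast_ne_zero.2 (by omega))) (mul_ne_zero ?_ ?_)
    · exact Nat.cast_ne_zero.2 (qFact_pos hq n).ne'
    · exact prod_ne_zero_iff.2 fun i _ => Nat.cast_ne_zero.2 (qFact_pos hq _).ne'
  apply mul_right_cancel₀ hne
  rw [pow_add] at h
  linear_combination h

/-- Central elements in the parabolic fix all its cosets. -/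
theorem fixedPointCharacter_central {G : Type*} [Group G] {H : Subgroup G} {z : G} (hzH : z ∈ H)
    (hz : ∀ g, z * g = g * z) : Cfsg.fixedPointCharacter H z = Cfsg.fixedPointCharacter H 1 := by
  have hall : ∀ x : G ⧸ H, z • x = x := fun x => by
    obtain ⟨g, rfl⟩ := QuotientGroup.mk_surjective x
    refine QuotientGroup.eq.2 ?_
    show (z * g)⁻¹ * g ∈ H
    rw [show (z * g)⁻¹ * g = z⁻¹ by rw [hz g]; group]
    exact inv_mem hzH
  unfold Cfsg.fixedPointCharacter
  congr 1
  exact Nat.card_congr (Equiv.subtypeEquivRight fun x => by simp [hall x])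

theorem steinberg_scalar (r : Fˣ) :
    unipotentCharacterGL n F (fun _ => 1) (Matrix.GeneralLinearGroup.scalar (Fin n) r) =
      unipotentCharacterGL n F (fun _ => 1) 1 := by
  unfold unipotentCharacterGL
  refine sum_congr rfl fun κ _ => ?_
  split_ifs with h
  · rw [fixedPointCharacter_central ?_ fun g => ?_]
    · show ((Matrix.GeneralLinearGroup.scalar (Fin n) r : GL (Fin n) F) : Matrix (Fin n) (Fin n) F).BlockTriangular _
      intro i j hij
      simp [Matrix.scalar_apply, Matrix.diagonal_apply, show i ≠ j from fun e => by subst e; exact lt_irrefl _ hij]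
    · exact Matrix.GeneralLinearGroup.scalar_commute r g
  · rfl

/-- Restriction of a character of defect zero to a normal subgroup of `p'`-index. -/
theorem isIrr_restrict {G : Type*} [Group G] [Fintype G] {p : ℕ} [hp : Fact p.Prime] (N : Subgroup G)
    [N.Normal] [Fintype N] (χ : IrrCharacter G) (hN : ¬ p ∣ N.index)
    (hdeg : Char.degree χ = p ^ (Nat.card G).factorization p) :
    IsIrrCharacter N (Char.resFun N χ.1) := by
  classical
  obtain ⟨M, hM⟩ := CharInt.exists_isPModular_of_prime (q := p) hp.out
  haveI := hM.2.1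
  have hsing : ∀ g : G, p ∣ orderOf g → χ.1 g = 0 := fun g hg =>
    Blocks.apply_eq_zero_of_defect_zero hM.2.2 χ (by rw [hdeg, hp.out.factorization_pow, Finsupp.single_eq_same])
      (fun h => h hg)
  obtain ⟨θ, hθ⟩ := Char.exists_constituent N χ
  obtain ⟨e, he⟩ := Char.IsCharacter.exists_nat_classInner
    (Char.IsCharacter.restrict (Char.irr_isCharacter χ) N) (Char.irr_isCharacter θ)
  change classInner (Char.resFun N χ.1) θ.1 = (e : ℂ) at he
  have hmul : Char.degree χ = e * ((Char.orbitFinset N θ).card * Char.degree θ) := by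
    have h := Char.apply_one_eq_mul_card_orbit N χ θ hθ
    rw [Char.apply_one_eq_degree, Char.apply_one_eq_degree, he] at h
    exact_mod_cast h
  -- the orbit is trivial
  have hone : Char.orbitFinset N θ = {θ} := by
    letI act : MulAction G (IrrCharacter N) :=
      { smul := fun g η => Char.conjChar N η g⁻¹
        one_smul := fun η => Subtype.ext (by
          show Char.conjFun N η.1 (1 : G)⁻¹ = η.1
          rw [inv_one, Char.conjFun_one])
        mul_smul := fun g h η => Subtype.ext (by
          show Char.conjFun N η.1 (g * h)⁻¹ = Char.conjFun N (Char.conjFun N η.1 h⁻¹) g⁻¹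
          rw [mul_inv_rev, Char.conjFun_mul]) }
    have horb : MulAction.orbit G θ = (Char.orbitFinset N θ : Set (IrrCharacter N)) := by
      ext η
      simp only [MulAction.mem_orbit_iff, Finset.mem_coe, Char.mem_orbitFinset]
      exact ⟨fun ⟨g, hg⟩ => ⟨g⁻¹, hg.symm⟩, fun ⟨g, hg⟩ => ⟨g⁻¹, by
        show Char.conjChar N θ g⁻¹⁻¹ = η
        rw [inv_inv, hg]⟩⟩
    have hle : N ≤ MulAction.stabilizer G θ := fun m hm => Subtype.ext (funext fun x => by
      show θ.1 (MulAut.conjNormal m⁻¹ x) = θ.1 x
      rw [show MulAut.conjNormal m⁻¹ x = (⟨m, hm⟩ : N)⁻¹ * x * ((⟨m, hm⟩ : N)⁻¹)⁻¹ from Subtype.ext (by simp)]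
      exact Char.IsCharacter.isClassFunction (Char.irr_isCharacter θ) x _)
    have hdvd : (Char.orbitFinset N θ).card ∣ N.index := by
      have := Subgroup.index_dvd_of_le hle
      rwa [MulAction.index_stabilizer, horb, Set.ncard_coe_finset] at this
    have hcop : (Char.orbitFinset N θ).card.Coprime p :=
      ((hp.out.coprime_iff_not_dvd).2 fun h => hN (h.trans hdvd)).symm
    have h1 : (Char.orbitFinset N θ).card = 1 := by
      refine Nat.eq_one_of_dvd_coprimes (hcop.pow_right ((Nat.card G).factorization p)) dvd_rfl ?_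
      rw [← hdeg, hmul]
      exact Dvd.dvd.mul_left (dvd_mul_right _ _) _
    obtain ⟨η, hη⟩ := Finset.card_eq_one.1 h1
    have : θ ∈ Char.orbitFinset N θ := (Char.mem_orbitFinset N).2 ⟨1, Subtype.ext (by simp)⟩
    rw [hη, Finset.mem_singleton] at this
    rw [hη, this]
  have hres : Char.resFun N χ.1 = (e : ℂ) • θ.1 := by
    rw [Char.resFun_eq_smul_orbitSum N χ θ hθ, he, Char.orbitSum, hone, Finset.sum_singleton]
  rw [hone, Finset.card_singleton, one_mul, hdeg] at hmul
  -- the degree of the constituent
  have he0 : e ≠ 0 := fun h => by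
    rw [h, Nat.zero_mul] at hmul
    exact pow_ne_zero _ hp.out.ne_zero hmul
  obtain ⟨z, hz⟩ := Char.exists_int_apply_one_eq_pPow_mul hp.out
    (Char.IsCharacter.isGeneralized (Char.irr_isCharacter θ)) fun x hx => by
      have h := congrFun hres x
      rw [Char.resFun_apply, hsing (x : G) (by rwa [Subgroup.orderOf_coe]), Pi.smul_apply, smul_eq_mul] at h
      exact (mul_eq_zero.1 h.symm).resolve_left (Nat.cast_ne_zero.2 he0)
  have hfac : (Nat.card N).factorization p = (Nat.card G).factorization p := by
    rw [← N.card_mul_index, Nat.factorization_mul Nat.card_pos.ne' Subgroup.index_ne_zero_of_finite,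
      Finsupp.add_apply, Nat.factorization_eq_zero_of_not_dvd hN, add_zero]
  rw [hfac, Char.apply_one_eq_degree] at hz
  have hz' : (Char.degree θ : ℤ) = (p ^ (Nat.card G).factorization p : ℕ) * z := by exact_mod_cast hz
  have hdvd : p ^ (Nat.card G).factorization p ∣ Char.degree θ := Int.natCast_dvd_natCast.1 ⟨z, hz'⟩
  have he1 : e = 1 := by
    obtain ⟨c, hc⟩ := hdvd
    rw [hc, mul_left_comm] at hmul
    have : e * c = 1 := (Nat.eq_of_mul_eq_mul_left (pow_pos hp.out.pos _) (by rw [mul_one]; exact hmul)).symm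
    exact Nat.eq_one_of_mul_eq_one_right this
  rw [hres, he1, Nat.cast_one, one_smul]
  exact θ.2

/-- **The Steinberg character** of `SL_n`. -/
theorem exists_steinberg (hn : 1 ≤ n) :
    ∃ χ : IrrCharacter (Matrix.SpecialLinearGroup (Fin n) F),
      Char.degree χ = Fintype.card F ^ (n * (n - 1) / 2) ∧
      ∀ z ∈ Subgroup.center (Matrix.SpecialLinearGroup (Fin n) F), χ.1 z = χ.1 1 := by
  classical
  haveI : Nonempty (Fin n) := ⟨⟨0, by omega⟩⟩
  obtain ⟨p, hchar⟩ := CharP.exists F
  haveI := hchar
  haveI : Fact p.Prime := ⟨(CharP.char_is_prime_or_zero F p).resolve_right (CharP.char_ne_zero_of_finite F p)⟩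
  let St : IrrCharacter (GL (Fin n) F) :=
    ⟨_, FlagChar.isIrr_unipotent (n := n) (F := F) (fun _ => 1) monotone_const (by simp)⟩
  have hdeg : Char.degree St = Fintype.card F ^ (n * (n - 1) / 2) := by
    have h := Char.apply_one_eq_degree St
    rw [show St.1 1 = _ from steinberg_degree (F := F) (n := n)] at h
    exact_mod_cast h.symm
  set N := (Matrix.GeneralLinearGroup.det : GL (Fin n) F →* Fˣ).ker
  have hidx : ¬ p ∣ N.index := by
    rw [Subgroup.index_ker, MonoidHom.range_eq_top_of_surjective _ Matrix.GeneralLinearGroup.det_surjective,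
      Subgroup.card_top, GL.card_units_field]
    simpa using GL.not_dvd_prod_pow_sub_one (F := F) p {1} (by simp)
  have hirr := isIrr_restrict N St hidx (by
    rw [hdeg, ← GL.card_sylow_GL_eq p (GL.sylowGL (F := F) p n)]
    exact Sylow.card_eq_multiplicity _)
  let e := GL.slEquivDetKer (ι := Fin n) (R := F)
  refine ⟨⟨_, Char.IsIrrCharacter.comp_surjective hirr e.toMonoidHom e.surjective⟩, ?_, ?_⟩
  · rw [← hdeg]
    have h2 := Char.apply_one_eq_degree (⟨_, Char.IsIrrCharacter.comp_surjective hirr e.toMonoidHom e.surjective⟩ :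
      IrrCharacter (Matrix.SpecialLinearGroup (Fin n) F))
    simp only [map_one, Char.resFun_apply, Subgroup.coe_one, MulEquiv.coe_toMonoidHom,
      Char.apply_one_eq_degree St] at h2
    exact_mod_cast h2.symm
  · intro z hz
    obtain ⟨r, hr, hrz⟩ := Matrix.SpecialLinearGroup.mem_center_iff.1 hz
    have hr0 : r ≠ 0 := fun h => by
      rw [h, zero_pow (by simp; omega)] at hr
      exact zero_ne_one hr
    have hez : ((e z : N) : GL (Fin n) F) = Matrix.GeneralLinearGroup.scalar (Fin n) (Units.mk0 r hr0) := by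
      apply Units.ext
      show (z : Matrix (Fin n) (Fin n) F) = _
      rw [← hrz]
      rfl
    show St.1 ((e z : N) : GL (Fin n) F) = St.1 ((e 1 : N) : GL (Fin n) F)
    rw [hez, map_one, Subgroup.coe_one]
    exact steinberg_scalar _

end Cfsg.Agent.DefChar
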