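/-
The unique block of defect zero of SL(n, q) in defining characteristic.
-/
import Mathlib
import Cfsg.Agent.Lib.DefChar.Blocks
import Cfsg.Agent.Lib.DefChar.Steinberg

set_option autoImplicit false
set_option linter.style.haveILetI false

namespace Cfsg.Agent.DefChar

open Cfsg.Agent.Blocks

universe u

variable {F : Type u} [Field F] [Fintype F] {n : ℕ} {p : ℕ} [hp : Fact p.Prime] [CharP F p]

local notation "SLn" => Matrix.SpecialLinearGroup (Fin n) F

/-- The order of a Sylow subgroup of `SL_n`. -/
theorem pPow_factorization_SL :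
    p ^ (Nat.card SLn).factorization p = Fintype.card F ^ (n * (n - 1) / 2) := by
  rw [← GL.card_sylow_SL_eq p (GL.sylowSL (F := F) p n)]
  exact (Sylow.card_eq_multiplicity _).symm

/-- A degree equal to the Sylow order is of defect zero. -/
theorem factorization_of_degree_eq {χ : IrrCharacter SLn}
    (h : Char.degree χ = Fintype.card F ^ (n * (n - 1) / 2)) :
    (Char.degree χ).factorization p = (Nat.card SLn).factorization p := by
  rw [h, ← pPow_factorization_SL (F := F) (n := n) (p := p), hp.out.factorization_pow, Finsupp.single_eq_same]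

variable {M : Ideal AlgInt} [M.IsMaximal]

/-- The blocks of defect zero: exactly the Steinberg character. -/
theorem exists_unique_defect_zero (hn : 1 ≤ n) (hpM : (p : AlgInt) ∈ M) :
    ∃ St : IrrCharacter SLn, Char.degree St = Fintype.card F ^ (n * (n - 1) / 2) ∧
      (∀ z ∈ Subgroup.center SLn, St.1 z = St.1 1) ∧
      IsPBlock M ({St} : Set (IrrCharacter SLn)) ∧ blockDefect p ({St} : Set (IrrCharacter SLn)) = 0 ∧
      ∀ B : Set (IrrCharacter SLn), IsPBlock M B → blockDefect p B = 0 → B = {St} := by
  obtain ⟨St, hdeg, hcen⟩ := exists_steinberg (F := F) hn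
  have hf := factorization_of_degree_eq (p := p) hdeg
  have hblock : IsPBlock M ({St} : Set (IrrCharacter SLn)) := by
    rw [← (blockOf_eq_singleton_iff hpM St).2 hf]; exact isPBlock_blockOf St
  refine ⟨St, hdeg, hcen, hblock, ?_, fun B hB h0 => ?_⟩
  · rw [blockDefect, Set.image_singleton, csInf_singleton, charDegree_eq, hf, Nat.sub_self]
  · obtain ⟨χ, rfl, hχ⟩ := defect_zero_singleton hpM hB h0
    rw [eq_of_defect_zero hn hpM χ St hχ hf]

end Cfsg.Agent.DefChar
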